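import Cfsg.Agent.Lib.Helper87.FusionMore

set_option autoImplicit false
open Cfsg Cfsg.FusionSystem

namespace Cfsg.Agent.Lib.Helper87

variable {Ω : Type*} [Group Ω] {S : Subgroup Ω}

/-! ### The subgroup generated by the `p'`-elements -/

theorem pResidual87_conj_mem {G : Type*} [Group G] (p : ℕ) {u : G} (hu : u ∈ pResidual p G)
    (g : G) : g * u * g⁻¹ ∈ pResidual p G := by
  unfold pResidual at hu ⊢
  induction hu using Subgroup.closure_induction with
  | mem x hx =>
    apply Subgroup.subset_closure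
    show Nat.Coprime (orderOf (g * x * g⁻¹)) p
    have h : orderOf (g * x * g⁻¹) = orderOf x := by
      have := (MulAut.conj g).orderOf_eq x
      simpa using this
    rw [h]
    exact hx
  | one => simp
  | mul x y _ _ hx hy =>
    have : g * (x * y) * g⁻¹ = (g * x * g⁻¹) * (g * y * g⁻¹) := by group
    rw [this]
    exact Subgroup.mul_mem _ hx hy
  | inv x _ hx =>
    have : g * x⁻¹ * g⁻¹ = (g * x * g⁻¹)⁻¹ := by group
    rw [this]
    exact Subgroup.inv_mem _ hx

theorem pResidual87_normal (p : ℕ) (G : Type*) [Group G] : (pResidual p G).Normal :=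
  ⟨fun _ hu g => pResidual87_conj_mem p hu g⟩

/-- Every element of a finite group is the product of an element of a given Sylow `p`-subgroup
and an element of the subgroup generated by the `p'`-elements. -/
theorem exists_mul_pResidual87 {G : Type*} [Group G] [Finite G] {p : ℕ} [Fact p.Prime]
    (T : Sylow p G) (g : G) : ∃ t ∈ (T : Subgroup G), ∃ u ∈ pResidual p G, g = t * u := by
  have hp : p.Prime := Fact.out
  have hn := pResidual87_normal p G
  -- the quotient is a `p`-group
  have hq : IsPGroup p (G ⧸ pResidual p G) := by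
    intro x
    obtain ⟨a, rfl⟩ := QuotientGroup.mk_surjective x
    have hpos : 0 < orderOf a := orderOf_pos a
    obtain ⟨k, m, hm, hkm⟩ :=
      Nat.exists_eq_pow_mul_and_not_dvd (Nat.pos_iff_ne_zero.mp hpos) p hp.ne_one
    refine ⟨k, ?_⟩
    rw [← QuotientGroup.mk_pow, QuotientGroup.eq_one_iff]
    apply Subgroup.subset_closure
    show Nat.Coprime (orderOf (a ^ p ^ k)) p
    have h1 : orderOf (a ^ p ^ k) = m := by
      rw [orderOf_pow' a (pow_ne_zero k hp.ne_zero), hkm]
      rw [Nat.gcd_eq_right (dvd_mul_right _ _)]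
      exact Nat.mul_div_cancel_left m (pow_pos hp.pos k)
    rw [h1]
    exact (Nat.Coprime.symm ((Nat.Prime.coprime_iff_not_dvd hp).mpr hm))
  obtain ⟨j, hj⟩ := (IsPGroup.iff_card).mp hq
  have hidx : (pResidual p G).index = p ^ j := by
    rw [Subgroup.index_eq_card]
    exact hj
  have h1 : ((T : Subgroup G) ⊔ pResidual p G).index ∣ (T : Subgroup G).index :=
    Subgroup.index_dvd_of_le le_sup_left
  have h2 : ((T : Subgroup G) ⊔ pResidual p G).index ∣ p ^ j := by
    rw [← hidx]
    exact Subgroup.index_dvd_of_le le_sup_right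
  obtain ⟨i, _, hi⟩ := (Nat.dvd_prime_pow hp).mp h2
  have hi0 : i = 0 := by
    by_contra hne
    apply T.not_dvd_index
    refine dvd_trans ?_ h1
    rw [hi]
    exact dvd_pow_self p hne
  rw [hi0, pow_zero] at hi
  have htop : (T : Subgroup G) ⊔ pResidual p G = ⊤ := Subgroup.index_eq_one.mp hi
  have hg : g ∈ (((T : Subgroup G) ⊔ pResidual p G : Subgroup G) : Set G) := by
    rw [htop]
    exact Subgroup.mem_top g
  rw [Subgroup.mul_normal] at hg
  obtain ⟨t, ht, u, hu, htu⟩ := hg
  exact ⟨t, ht, u, hu, htu.symm⟩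

/-- The image in the ambient group of the `p'`-residual of a subgroup. -/
theorem map_pResidual_eq_closure {M : Type*} [Group M] (p : ℕ) (A : Subgroup M) :
    (pResidual p ↥A).map A.subtype
      = Subgroup.closure {a : M | a ∈ A ∧ (orderOf a).Coprime p} := by
  unfold pResidual
  rw [MonoidHom.map_closure]
  congr 1
  ext a
  constructor
  · rintro ⟨x, hx, rfl⟩
    refine ⟨x.2, ?_⟩
    have hx' : (orderOf x).Coprime p := hx
    rwa [← Subgroup.orderOf_coe] at hx'
  · rintro ⟨ha, hc⟩
    refine ⟨⟨a, ha⟩, ?_, rfl⟩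
    show (orderOf (⟨a, ha⟩ : A)).Coprime p
    rw [← Subgroup.orderOf_coe]
    exact hc

/-- Transport of the `p'`-residual along an isomorphism of the ambient groups. -/
theorem map_pResidual_congr {M M' : Type*} [Group M] [Group M'] (p : ℕ) (f : M ≃* M')
    {A : Subgroup M} {A' : Subgroup M'} (hA : ∀ a ∈ A, f a ∈ A') {a : M}
    (ha : a ∈ (pResidual p ↥A).map A.subtype) : f a ∈ (pResidual p ↥A').map A'.subtype := by
  rw [map_pResidual_eq_closure] at ha ⊢
  induction ha using Subgroup.closure_induction with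
  | mem x hx =>
    apply Subgroup.subset_closure
    refine ⟨hA x hx.1, ?_⟩
    rw [f.orderOf_eq]
    exact hx.2
  | one => simp
  | mul x y _ _ hx hy =>
    rw [map_mul]
    exact Subgroup.mul_mem _ hx hy
  | inv x _ hx =>
    rw [map_inv]
    exact Subgroup.inv_mem _ hx

/-! ### The hyperfocal subgroup -/

theorem hyperfocal_gen (F : FusionSystem S) (p : ℕ) {R : Subgroup Ω} (hR : R ≤ S) {β : MulAut R}
    (hβ : β ∈ (pResidual p ↥(F.autGroup R)).map (F.autGroup R).subtype) (x : R) :
    (x : Ω)⁻¹ * ((β x : R) : Ω) ∈ F.hyperfocalSubgroup p := by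
  obtain ⟨b, hb, rfl⟩ := hβ
  apply Subgroup.subset_closure
  exact ⟨R, b, x, hR, hb, rfl⟩

theorem hyperfocal_le (F : FusionSystem S) (p : ℕ) : F.hyperfocalSubgroup p ≤ S := by
  unfold hyperfocalSubgroup
  rw [Subgroup.closure_le]
  rintro y ⟨P, α, x, hP, -, rfl⟩
  exact S.mul_mem (S.inv_mem (hP x.2)) (hP ((α : MulAut P) x).2)

theorem hyperfocal_conj_mem (F : FusionSystem S) (p : ℕ) {g : Ω} (hg : g ∈ S) {h : Ω}
    (hh : h ∈ F.hyperfocalSubgroup p) : g * h * g⁻¹ ∈ F.hyperfocalSubgroup p := by
  unfold hyperfocalSubgroup at hh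
  induction hh using Subgroup.closure_induction with
  | mem y hy =>
    obtain ⟨P, α, x, hP, hα, rfl⟩ := hy
    -- the conjugate subgroup and the conjugation isomorphism
    obtain ⟨P', e, he_apply⟩ : ∃ (P' : Subgroup Ω) (e : P ≃* P'),
        ∀ x : P, ((e x : P') : Ω) = g * x * g⁻¹ :=
      ⟨_, (MulAut.conj g).subgroupMap P, fun x => rfl⟩
    have he : IsIso F e := by
      have h1 : conjHom P g ∈ F.Hom P := F.conj_mem hP hg
      have h2 : conjHom P g = P'.subtype.comp e.toMonoidHom := by
        ext x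
        exact (he_apply x).symm
      rw [h2] at h1
      exact h1
    have hP' : P' ≤ S := he.le_right
    have hα' : MulAut.congr e (α : MulAut P)
        ∈ (pResidual p ↥(F.autGroup P')).map (F.autGroup P').subtype :=
      map_pResidual_congr p (MulAut.congr e)
        (fun a ha => congr_mem_autGroup F he ha) ⟨α, hα, rfl⟩
    have key := hyperfocal_gen F p hP' hα' (e x)
    have e1 : (MulAut.congr e (α : MulAut P)) (e x) = e ((α : MulAut P) x) := by
      simp [MulAut.congr]
    rw [e1, he_apply, he_apply] at key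
    have e4 : g * ((x : Ω)⁻¹ * (((α : MulAut P) x : P) : Ω)) * g⁻¹
        = (g * x * g⁻¹)⁻¹ * (g * ((α : MulAut P) x : P) * g⁻¹) := by group
    rw [e4]
    exact key
  | one => simp
  | mul x y _ _ hx hy =>
    have : g * (x * y) * g⁻¹ = (g * x * g⁻¹) * (g * y * g⁻¹) := by group
    rw [this]
    exact Subgroup.mul_mem _ hx hy
  | inv x _ hx =>
    have : g * x⁻¹ * g⁻¹ = (g * x * g⁻¹)⁻¹ := by group
    rw [this]
    exact Subgroup.inv_mem _ hx

theorem hyperfocal_conj_iff (F : FusionSystem S) (p : ℕ) (g : Ω) (hg : g ∈ S) (x : Ω) :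
    x ∈ F.hyperfocalSubgroup p ↔ g * x * g⁻¹ ∈ F.hyperfocalSubgroup p := by
  constructor
  · exact hyperfocal_conj_mem F p hg
  · intro h
    have h2 := hyperfocal_conj_mem F p (S.inv_mem hg) h
    have h3 : g⁻¹ * (g * x * g⁻¹) * g⁻¹⁻¹ = x := by group
    rwa [h3] at h2

/-- In a fully automized subgroup every automorphism of the system is the product of an
automorphism induced by `S` and an element of the `p'`-residual. -/
theorem exists_aut_mul_pResidual [Finite S] {p : ℕ} [Fact p.Prime] (F : FusionSystem S)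
    {R : Subgroup Ω} (hfa : F.IsFullyAutomized p R) {α : MulAut R} (hα : α ∈ F.autGroup R) :
    ∃ c ∈ autInducedBy S R, ∃ β ∈ (pResidual p ↥(F.autGroup R)).map (F.autGroup R).subtype,
      α = c * β := by
  obtain ⟨hR, T, hT⟩ := hfa
  have hfinR : Finite R := finite_of_le hR
  obtain ⟨t, ht, u, hu, htu⟩ := exists_mul_pResidual87 T (⟨α, hα⟩ : F.autGroup R)
  rw [hT] at ht
  refine ⟨(t : MulAut R), ht, (u : MulAut R), ⟨u, hu, rfl⟩, ?_⟩
  have := congrArg Subtype.val htu
  exact this

end Cfsg.Agent.Lib.Helper87
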