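import Cfsg.Agent.Lib.Helper87.FusionHyp
import Cfsg.Agent.Lib.Helper87.FusionFactor

set_option autoImplicit false
open Cfsg Cfsg.FusionSystem

namespace Cfsg.Agent.Lib.Helper87

variable {Ω : Type*} [Group Ω] {S : Subgroup Ω}

theorem aut_pow_comm {P P' : Type*} [Group P] [Group P'] (f : P →* P') {a : MulAut P}
    {a' : MulAut P'} (hc : ∀ x, a' (f x) = f (a x)) (n : ℕ) (x : P) :
    (a' ^ n) (f x) = f ((a ^ n) x) := by
  induction n generalizing x with
  | zero => simp
  | succ n ih =>
    rw [pow_succ, pow_succ, MulAut.mul_apply, MulAut.mul_apply, hc, ih]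

/-- Along a surjective homomorphism, if every automorphism in `A` induces one in `A'`, then
every element of `O^p(A)` induces an element of `O^p(A')`. -/
theorem pResidual_lift_forward {P P' : Type*} [Group P] [Group P'] (p : ℕ) (f : P →* P')
    (hf : Function.Surjective f) {A : Subgroup (MulAut P)} {A' : Subgroup (MulAut P')}
    (h : ∀ α ∈ A, ∃ α' ∈ A', ∀ x, α' (f x) = f (α x))
    {α : MulAut P} (hα : α ∈ (pResidual p ↥A).map A.subtype) :
    ∃ α' ∈ (pResidual p ↥A').map A'.subtype, ∀ x, α' (f x) = f (α x) := by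
  rw [map_pResidual_eq_closure] at hα
  induction hα using Subgroup.closure_induction with
  | mem a ha =>
    obtain ⟨a', ha', hc⟩ := h a ha.1
    refine ⟨a', ?_, hc⟩
    rw [map_pResidual_eq_closure]
    apply Subgroup.subset_closure
    refine ⟨ha', ?_⟩
    have h1 : a' ^ orderOf a = 1 := by
      ext y
      obtain ⟨x, rfl⟩ := hf y
      rw [aut_pow_comm f hc, pow_orderOf_eq_one]
      rfl
    exact Nat.Coprime.coprime_dvd_left (orderOf_dvd_of_pow_eq_one h1) ha.2
  | one => exact ⟨1, Subgroup.one_mem _, fun x => rfl⟩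
  | mul a b _ _ iha ihb =>
    obtain ⟨a', ha', hca⟩ := iha
    obtain ⟨b', hb', hcb⟩ := ihb
    exact ⟨a' * b', Subgroup.mul_mem _ ha' hb', fun x => by
      rw [MulAut.mul_apply, MulAut.mul_apply, hcb, hca]⟩
  | inv a _ iha =>
    obtain ⟨a', ha', hca⟩ := iha
    refine ⟨a'⁻¹, Subgroup.inv_mem _ ha', fun x => ?_⟩
    have h1 := hca (a⁻¹ x)
    rw [MulAut.apply_inv_self] at h1
    rw [← h1, MulAut.inv_apply_self]

/-- Along a surjective homomorphism, if every automorphism in `A'` is induced by one in `A`, then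
every element of `O^p(A')` is induced by an element of `O^p(A)`. -/
theorem pResidual_lift_backward {P P' : Type*} [Group P] [Group P'] [Finite P] {p : ℕ}
    [Fact p.Prime] (f : P →* P') (hf : Function.Surjective f)
    {A : Subgroup (MulAut P)} {A' : Subgroup (MulAut P')}
    (h : ∀ α' ∈ A', ∃ α ∈ A, ∀ x, α' (f x) = f (α x))
    {α' : MulAut P'} (hα' : α' ∈ (pResidual p ↥A').map A'.subtype) :
    ∃ α ∈ (pResidual p ↥A).map A.subtype, ∀ x, α' (f x) = f (α x) := by
  have hp : p.Prime := Fact.out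
  rw [map_pResidual_eq_closure] at hα'
  induction hα' using Subgroup.closure_induction with
  | mem a' ha' =>
    obtain ⟨a, ha, hc⟩ := h a' ha'.1
    have hpos : 0 < orderOf a := orderOf_pos a
    obtain ⟨k, m, hm, hkm⟩ :=
      Nat.exists_eq_pow_mul_and_not_dvd (Nat.pos_iff_ne_zero.mp hpos) p hp.ne_one
    have h1 : orderOf (a ^ p ^ k) = m := by
      rw [orderOf_pow' a (pow_ne_zero k hp.ne_zero), hkm]
      rw [Nat.gcd_eq_right (dvd_mul_right _ _)]
      exact Nat.mul_div_cancel_left m (pow_pos hp.pos k)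
    have hcop : Nat.Coprime (p ^ k) (orderOf a') := (Nat.Coprime.pow_right k ha'.2).symm
    -- an exponent `j` with `p ^ k * j ≡ 1` modulo the order of `a'`
    have h2 : a' ^ orderOf a = 1 := by
      ext y
      obtain ⟨x, rfl⟩ := hf y
      rw [aut_pow_comm f hc, pow_orderOf_eq_one]
      rfl
    have hpos' : 0 < orderOf a' :=
      orderOf_pos_iff.2 (isOfFinOrder_iff_pow_eq_one.2 ⟨orderOf a, hpos, h2⟩)
    have hj : ∃ j : ℕ, a' ^ (p ^ k * j) = a' := by
      by_cases h1' : orderOf a' = 1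
      · refine ⟨0, ?_⟩
        rw [orderOf_eq_one_iff] at h1'
        rw [h1']
        simp
      · have hgt : 1 < orderOf a' := by omega
        obtain ⟨j, -, hj⟩ := Nat.exists_mul_mod_eq_one_of_coprime hcop hgt
        refine ⟨j, ?_⟩
        have : a' ^ (p ^ k * j) = a' ^ 1 := by
          rw [pow_eq_pow_iff_modEq]
          show p ^ k * j % orderOf a' = 1 % orderOf a'
          rw [hj, Nat.mod_eq_of_lt hgt]
        rw [this, pow_one]
    obtain ⟨j, hj⟩ := hj
    refine ⟨(a ^ p ^ k) ^ j, ?_, fun x => ?_⟩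
    · rw [map_pResidual_eq_closure]
      apply Subgroup.pow_mem
      apply Subgroup.subset_closure
      refine ⟨Subgroup.pow_mem _ ha _, ?_⟩
      rw [h1]
      exact (Nat.Coprime.symm ((Nat.Prime.coprime_iff_not_dvd hp).mpr hm))
    · rw [← pow_mul, ← aut_pow_comm f hc, hj]
  | one => exact ⟨1, Subgroup.one_mem _, fun x => rfl⟩
  | mul a b _ _ iha ihb =>
    obtain ⟨a', ha', hca⟩ := iha
    obtain ⟨b', hb', hcb⟩ := ihb
    exact ⟨a' * b', Subgroup.mul_mem _ ha' hb', fun x => by
      rw [MulAut.mul_apply, MulAut.mul_apply, hcb, hca]⟩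
  | inv a _ iha =>
    obtain ⟨a', ha', hca⟩ := iha
    refine ⟨a'⁻¹, Subgroup.inv_mem _ ha', fun x => ?_⟩
    have h1 := hca (a'⁻¹ x)
    rw [MulAut.apply_inv_self] at h1
    rw [← h1, MulAut.inv_apply_self]

end Cfsg.Agent.Lib.Helper87
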