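import Mathlib
import Cfsg.Prelude.Def_FusionSystem
import Cfsg.Prelude.Def_PLocal
import Cfsg.Agent.Lib.Helper87.GTa
import Cfsg.Agent.Lib.Helper84.KNormalizer
import Cfsg.Agent.Lib.Helper84.FusionSat2

set_option autoImplicit false

namespace Cfsg.Agent.Lib.Helper87

open Cfsg Cfsg.FusionSystem

variable {Ω : Type*} [Group Ω] {S : Subgroup Ω}

/-- The generation property: a fusion system over `S` containing the centralizer system of the
`p`-th powers of the centre of `S` and the normalizer system of the Thompson subgroup of `S`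
contains every map of `F`. -/
def GenProp (p : ℕ) {S : Subgroup Ω} (F : FusionSystem S) : Prop :=
  ∀ E : FusionSystem S,
    (∀ P : Subgroup Ω,
      F.centralizerHom (powerClosure p 1 (S ⊓ Subgroup.centralizer (S : Set Ω))) P ⊆ E.Hom P) →
    (∀ P : Subgroup Ω, F.normalizerHom (thompsonSubgroupAOf S) P ⊆ E.Hom P) →
    ∀ P : Subgroup Ω, F.Hom P ⊆ E.Hom P

/-- The inductive step: the maps of the normalizer system of a fully normalized, non-normal
subgroup `Q₁` defined on `R₁` are maps of `E`. -/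
theorem ind_step [Finite S] {p : ℕ} [Fact p.Prime] (hS : IsPGroup p S) (F : FusionSystem S)
    (hF : F.IsSaturated p)
    (IH : ∀ (M : Subgroup Ω) (N : FusionSystem M), Finite M → IsPGroup p M → N.IsSaturated p →
      mu N < mu F → GenProp p N)
    (E : FusionSystem S)
    (hCE : ∀ P : Subgroup Ω,
      F.centralizerHom (powerClosure p 1 (S ⊓ Subgroup.centralizer (S : Set Ω))) P ⊆ E.Hom P)
    (hNE : ∀ P : Subgroup Ω, F.normalizerHom (thompsonSubgroupAOf S) P ⊆ E.Hom P)
    {Q₁ : Subgroup Ω} (hQfn : F.IsFullyNormalized Q₁) (hQnn : ¬ F.IsNormal Q₁)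
    {R₁ : Subgroup Ω} (hR₁ : R₁ ≤ S)
    (hbig : ∀ P : Subgroup Ω, Nat.card R₁ < Nat.card P → F.Hom P ⊆ E.Hom P)
    (hcond : normalizerIn S Q₁ = S ∨ ∀ P₁ : Subgroup Ω, P₁ ≤ normalizerIn S Q₁ →
      F.IsConj R₁ P₁ → ¬ thompsonSubgroupAOf (normalizerIn S Q₁) ≤ P₁) :
    F.normalizerHom Q₁ R₁ ⊆ E.Hom R₁ := by
  have hQS : Q₁ ≤ S := hQfn.1
  have hMS : normalizerIn S Q₁ ≤ S := inf_le_left
  have hfinM : Finite (normalizerIn S Q₁) := finite_of_le hMS
  have hMp : IsPGroup p (normalizerIn S Q₁) := hS.to_le hMS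
  obtain ⟨N, hNdef⟩ : ∃ N : FusionSystem (normalizerIn S Q₁), F.IsNormalizerSystem Q₁ N :=
    ⟨_, isNormalizerSystem_normSystem F Q₁ hQS⟩
  have hNsat : N.IsSaturated p := Helper84.normalizerSystem_saturated p hS F hF Q₁ hQfn N hNdef
  have hNF : ∀ P : Subgroup Ω, N.Hom P ⊆ F.Hom P := by
    intro P φ hφ
    rw [hNdef P] at hφ
    exact hφ.1
  have hmu : mu N < mu F := by
    have hex : ∃ (P₀ : Subgroup Ω) (φ₀ : P₀ →* Ω), φ₀ ∈ F.Hom P₀ ∧ φ₀ ∉ N.Hom P₀ := by
      by_contra hcon
      push_neg at hcon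
      apply hQnn
      refine ⟨hQS, fun P φ hφ => ?_⟩
      have h1 := hcon P φ hφ
      rw [hNdef P] at h1
      exact h1.2.2.2
    obtain ⟨P₀, φ₀, h1, h2⟩ := hex
    exact mu_lt N F hNF h1 h2
  have hgen := IH _ N hfinM hMp hNsat hmu
  -- the condition
  have hC1 : ∀ (P Q : Subgroup Ω) (φ : P →* Ω), φ ∈ N.Hom P → (∀ x : P, φ x ∈ Q) →
      Q ≤ normalizerIn S Q₁ → (Nat.card R₁ < Nat.card P ∨ F.IsConj R₁ P) →
      (Nat.card R₁ < Nat.card Q ∨ F.IsConj R₁ Q) := by
    intro P Q φ hφ h hQM hCP
    have hφF := hNF P hφ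
    have hfinQ : Finite Q := finite_of_le (hQM.trans hMS)
    have hle : Nat.card P ≤ Nat.card Q :=
      Nat.card_le_card_of_injective (fun x : P => (⟨φ x, h x⟩ : Q))
        (fun a b hab => F.injective_of_mem hφF (congrArg Subtype.val hab))
    rcases hCP with hlt | hconj
    · left
      omega
    · have hcard := card_eq_of_isConj F hconj
      by_cases hlt : Nat.card P < Nat.card Q
      · left
        omega
      · right
        have hrange : φ.range = Q := by
          have hrl : φ.range ≤ Q := by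
            rintro _ ⟨x, rfl⟩
            exact h x
          apply Subgroup.eq_of_le_of_card_ge hrl
          have h3 : Nat.card φ.range = Nat.card P :=
            (Nat.card_congr (MonoidHom.ofInjective (F.injective_of_mem hφF)).toEquiv).symm
          omega
        exact isConj_trans F hconj ⟨φ, hφF, hrange⟩
  have hC2 : ∀ (P : Subgroup Ω) (φ : P →* Ω), φ ∈ N.Hom P →
      (Nat.card R₁ < Nat.card φ.range ∨ F.IsConj R₁ φ.range) →
      (Nat.card R₁ < Nat.card P ∨ F.IsConj R₁ P) := by
    intro P φ hφ hCr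
    have hφF := hNF P hφ
    have hcard : Nat.card φ.range = Nat.card P :=
      (Nat.card_congr (MonoidHom.ofInjective (F.injective_of_mem hφF)).toEquiv).symm
    rcases hCr with hlt | hconj
    · left
      omega
    · right
      exact isConj_trans F hconj (isConj_symm F ⟨φ, hφF, rfl⟩)
  have key := hgen (filtSystem N E hMS (fun P => Nat.card R₁ < Nat.card P ∨ F.IsConj R₁ P)
    hC1 hC2) ?_ ?_ R₁
  · intro φ hφ
    have h1 : φ ∈ N.Hom R₁ := by
      rw [hNdef R₁]
      exact hφ
    exact (key h1).2 (Or.inr (isConj_refl F hR₁))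
  · -- the centralizer system
    rintro P φ ⟨hφ, hPc, hφc, ψ, hψ, hext, hfix⟩
    have hφF := hNF P hφ
    have hZZ : S ⊓ Subgroup.centralizer (S : Set Ω) ≤ normalizerIn S Q₁ ⊓
        Subgroup.centralizer ((normalizerIn S Q₁ : Subgroup Ω) : Set Ω) := by
      intro z hz
      refine ⟨⟨hz.1, cen_mem_normalizer hz.2 hQS⟩, ?_⟩
      exact Subgroup.centralizer_le (fun x hx => hMS hx) hz.2
    have hY : powerClosure p 1 (S ⊓ Subgroup.centralizer (S : Set Ω)) ≤
        powerClosure p 1 (normalizerIn S Q₁ ⊓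
          Subgroup.centralizer ((normalizerIn S Q₁ : Subgroup Ω) : Set Ω)) := by
      unfold powerClosure
      apply Subgroup.closure_mono
      rintro y ⟨x, hx, rfl⟩
      exact ⟨x, hZZ hx, rfl⟩
    have hle : P ⊔ powerClosure p 1 (S ⊓ Subgroup.centralizer (S : Set Ω)) ≤
        P ⊔ powerClosure p 1 (normalizerIn S Q₁ ⊓
          Subgroup.centralizer ((normalizerIn S Q₁ : Subgroup Ω) : Set Ω)) :=
      sup_le_sup_left hY P
    refine ⟨hφ, fun _ => hCE P ⟨hφF, fun x hx => le_cen_powerClosure p 1 S (hom_le F hφF hx),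
      fun x => le_cen_powerClosure p 1 S (hom_mem F hφF x),
      ψ.comp (Subgroup.inclusion hle), hom_restrict F hle (hNF _ hψ), fun x => hext x,
      fun x => ?_⟩⟩
    exact hfix ⟨x, hY x.2⟩
  · -- the normalizer system
    rintro P φ ⟨hφ, hPn, hφn, ψ, hψ, hext, hmap⟩
    have hφF := hNF P hφ
    have hψF := hNF _ hψ
    refine ⟨hφ, fun hCP => ?_⟩
    rcases hcond with hMeq | hcond
    · have hJ : thompsonSubgroupAOf (normalizerIn S Q₁) = thompsonSubgroupAOf S := by rw [hMeq]
      apply hNE P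
      rw [← hJ]
      exact ⟨hφF, hPn.trans (inf_le_inf_right _ hMS), fun x => ⟨hom_mem F hφF x, (hφn x).2⟩,
        ψ, hψF, hext, hmap⟩
    · rcases hCP with hlt | hconj
      · exact hbig P hlt hφF
      · have hPM : P ≤ normalizerIn S Q₁ := (N.le_of_mem hφ).1
        have hnot := hcond P hPM hconj
        have hJM : thompsonSubgroupAOf (normalizerIn S Q₁) ≤ normalizerIn S Q₁ :=
          thompson_le_self _
        have hfinPJ : Finite ↥(P ⊔ thompsonSubgroupAOf (normalizerIn S Q₁)) :=
          finite_of_le ((sup_le hPM hJM).trans hMS)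
        have hlt : Nat.card R₁ < Nat.card ↥(P ⊔ thompsonSubgroupAOf (normalizerIn S Q₁)) := by
          rw [card_eq_of_isConj F hconj]
          by_contra hcon
          have heq := Subgroup.eq_of_le_of_card_ge
            (le_sup_left : P ≤ P ⊔ thompsonSubgroupAOf (normalizerIn S Q₁)) (not_lt.1 hcon)
          apply hnot
          have h3 : thompsonSubgroupAOf (normalizerIn S Q₁) ≤
              P ⊔ thompsonSubgroupAOf (normalizerIn S Q₁) := le_sup_right
          rwa [← heq] at h3
        have hψE := hbig _ hlt hψF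
        have h1 := hom_restrict E
          (le_sup_left : P ≤ P ⊔ thompsonSubgroupAOf (normalizerIn S Q₁)) hψE
        have h2 : ψ.comp (Subgroup.inclusion le_sup_left) = φ := by
          ext x
          exact hext x
        rw [h2] at h1
        exact h1

end Cfsg.Agent.Lib.Helper87
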