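import Mathlib
import Cfsg.Prelude.Def_FusionSystem
import Cfsg.Prelude.Def_PLocal
import Cfsg.Agent.Lib.Helper87.GTb

set_option autoImplicit false

namespace Cfsg.Agent.Lib.Helper87

open Cfsg Cfsg.FusionSystem

variable {Ω : Type*} [Group Ω] {S : Subgroup Ω}

/-- The automorphisms of a fully normalized centric subgroup `R` whose Thompson subgroup is
fully normalized are maps of `E`. -/
theorem lemA [Finite S] {p : ℕ} [Fact p.Prime] (hS : IsPGroup p S) (F : FusionSystem S)
    (hF : F.IsSaturated p)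
    (IH : ∀ (M : Subgroup Ω) (N : FusionSystem M), Finite M → IsPGroup p M → N.IsSaturated p →
      mu N < mu F → GenProp p N)
    (E : FusionSystem S)
    (hCE : ∀ P : Subgroup Ω,
      F.centralizerHom (powerClosure p 1 (S ⊓ Subgroup.centralizer (S : Set Ω))) P ⊆ E.Hom P)
    (hNE : ∀ P : Subgroup Ω, F.normalizerHom (thompsonSubgroupAOf S) P ⊆ E.Hom P)
    {R : Subgroup Ω} (hfn : F.IsFullyNormalized R) (hc : F.IsCentric R)
    (hbig : ∀ P : Subgroup Ω, Nat.card R < Nat.card P → F.Hom P ⊆ E.Hom P)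
    (hQfn : F.IsFullyNormalized (thompsonSubgroupAOf R))
    {α : MulAut R} (hα : α ∈ F.autGroup R) : IsIso E (α : R ≃* R) := by
  have hR : R ≤ S := hfn.1
  have hfinR : Finite R := finite_of_le hR
  have hfa : F.IsFullyAutomized p R := Helper84.fullyAutomized_of_fullyNormalized p hS F hF hfn
  have hrec : F.IsReceptive R := Helper84.receptive_of_fullyCentralized p hS F hF
    (Helper84.fullyCentralized_of_fullyNormalized p hS F hF hfn)
  by_cases h1 : thompsonSubgroupAOf S ≤ R
  · exact case_thompson F E hNE hR h1 hα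
  by_cases h2 : ∃ g ∈ normalizerIn S R, g ∉ R ∧ ∀ v ∈ zen R, g * v ^ p = v ^ p * g
  · obtain ⟨g, hgN, hgR, hgc⟩ := h2
    exact fr_pow F E hCE hfa hrec hc hbig hgN hgR hgc hα
  have hJT : thompsonSubgroupAOf (normalizerIn S R) ≤ R := thompson_normalizer_le hS hR h2
  have hRT : R ≤ normalizerIn S R := le_normalizerIn hR
  have hfinT : Finite (normalizerIn S R) := finite_of_le inf_le_left
  have hQT : thompsonSubgroupAOf R = thompsonSubgroupAOf (normalizerIn S R) :=
    thompson_eq_of_le hRT hJT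
  have hQR : thompsonSubgroupAOf R ≤ R := thompson_le_self R
  have hRnQ : R ≤ Subgroup.normalizer (thompsonSubgroupAOf R : Set Ω) :=
    Subgroup.le_normalizer.trans (normalizer_le_normalizer_thompson R)
  have hαN : R.subtype.comp α.toMonoidHom ∈ F.normalizerHom (thompsonSubgroupAOf R) R :=
    aut_normalizerHom F hR hQR hRnQ hα (fun x hx => aut_mem_thompson α hx)
      (fun x hx => aut_mem_thompson α⁻¹ hx)
  by_cases hQn : F.IsNormal (thompsonSubgroupAOf R)
  swap
  · -- the Thompson subgroup of `R` is not normal in the system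
    refine ind_step hS F hF IH E hCE hNE hQfn hQn hR hbig ?_ hαN
    by_cases hMS : normalizerIn S (thompsonSubgroupAOf R) = S
    · exact Or.inl hMS
    · right
      intro P₁ hP₁ hconj hJle
      obtain ⟨e₁, -⟩ := (isConj_iff_exists_iso F R P₁).1 hconj
      have hfinM : Finite (normalizerIn S (thompsonSubgroupAOf R)) := finite_of_le inf_le_left
      have hRM : R ≤ normalizerIn S (thompsonSubgroupAOf R) := le_inf hR hRnQ
      have hJeq : thompsonSubgroupAOf R
          = thompsonSubgroupAOf (normalizerIn S (thompsonSubgroupAOf R)) :=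
        thompson_eq_of_iso_le hP₁ hJle hRM e₁.symm
      obtain ⟨g, hgN, hgM⟩ := exists_normalizerIn_not_mem hS
        (P := normalizerIn S (thompsonSubgroupAOf R)) inf_le_left hMS
      apply hgM
      refine ⟨hgN.1, ?_⟩
      have h3 : g ∈ Subgroup.normalizer
          ((thompsonSubgroupAOf (normalizerIn S (thompsonSubgroupAOf R)) : Subgroup Ω) : Set Ω) :=
        normalizer_le_normalizer_thompson (normalizerIn S (thompsonSubgroupAOf R)) hgN.2
      rw [← hJeq] at h3
      exact h3
  -- the Thompson subgroup of `R` is normal in the system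
  have hQsc : F.StronglyClosed (thompsonSubgroupAOf R) := isNormal_stronglyClosed F hQn
  have hSnQ : S ≤ Subgroup.normalizer (thompsonSubgroupAOf R : Set Ω) :=
    stronglyClosed_le_normalizer F hQsc
  -- (a) the Thompson subgroup of `R` contains its centralizer in `S`
  have hCQ : ∀ c ∈ S, (∀ j ∈ thompsonSubgroupAOf R, j * c = c * j) →
      c ∈ thompsonSubgroupAOf R := by
    have hXR : centralizerIn S (thompsonSubgroupAOf R) ≤ R := by
      apply le_of_inf_normalizer_le hS hR inf_le_left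
      · apply le_normalizer_of_conj_mem
        intro s hs x hx
        refine ⟨S.mul_mem (S.mul_mem hs hx.1) (S.inv_mem hs), ?_⟩
        show s * x * s⁻¹ ∈ Subgroup.centralizer ((thompsonSubgroupAOf R : Subgroup Ω) : Set Ω)
        rw [Subgroup.mem_centralizer_iff]
        intro q hq
        have h3 := hx.2 _ (conj_mem_of_le_normalizer' hSnQ hs hq)
        calc q * (s * x * s⁻¹) = s * ((s⁻¹ * q * s) * x) * s⁻¹ := by group
          _ = s * (x * (s⁻¹ * q * s)) * s⁻¹ := by rw [h3]
          _ = s * x * s⁻¹ * q := by group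
      · intro x hx hxn
        have hxT : x ∈ normalizerIn S R := ⟨hx.1, hxn⟩
        have h3 : x ∈ thompsonSubgroupAOf (normalizerIn S R) := by
          apply centralizer_thompson_le hxT
          rw [← hQT]
          exact fun j hj => hx.2 j hj
        exact hJT h3
    intro c hc hcj
    have hcX : c ∈ centralizerIn S (thompsonSubgroupAOf R) := by
      refine ⟨hc, ?_⟩
      show c ∈ Subgroup.centralizer ((thompsonSubgroupAOf R : Subgroup Ω) : Set Ω)
      rw [Subgroup.mem_centralizer_iff]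
      exact hcj
    exact centralizer_thompson_le (hXR hcX) hcj
  -- (b) a largest normal subgroup between the Thompson subgroup and `R`
  obtain ⟨U, ⟨hUn, hQU, hUR⟩, hUmax⟩ : ∃ U : Subgroup Ω,
      (F.IsNormal U ∧ thompsonSubgroupAOf R ≤ U ∧ U ≤ R) ∧
      ∀ U' : Subgroup Ω, F.IsNormal U' → thompsonSubgroupAOf R ≤ U' → U' ≤ R →
        Nat.card U' ≤ Nat.card U := by
    let T : Set ℕ := {n | ∃ U : Subgroup Ω,
      (F.IsNormal U ∧ thompsonSubgroupAOf R ≤ U ∧ U ≤ R) ∧ Nat.card U = n}
    have hne : T.Nonempty := ⟨_, thompsonSubgroupAOf R, ⟨hQn, le_rfl, hQR⟩, rfl⟩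
    have hbdd : BddAbove T := by
      refine ⟨Nat.card R, ?_⟩
      rintro n ⟨U, ⟨-, -, hUR⟩, rfl⟩
      exact Subgroup.card_le_of_le hUR
    obtain ⟨U, hU, hcard⟩ := Nat.sSup_mem hne hbdd
    refine ⟨U, hU, fun U' h3 h4 h5 => ?_⟩
    rw [hcard]
    exact le_csSup hbdd ⟨U', ⟨h3, h4, h5⟩, rfl⟩
  have hUsc : F.StronglyClosed U := isNormal_stronglyClosed F hUn
  have hUS : U ≤ S := hUn.1
  have hSnU : S ≤ Subgroup.normalizer (U : Set Ω) := stronglyClosed_le_normalizer F hUsc
  have hCU : ∀ c ∈ S, (∀ u ∈ U, u * c = c * u) → c ∈ U :=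
    fun c hc hcu => hQU (hCQ c hc (fun j hj => hcu j (hQU hj)))
  have hZS : zen U ≤ S := inf_le_left.trans hUS
  have hSnZ : S ≤ Subgroup.normalizer (zen U : Set Ω) := zen_normalizer hSnU
  -- (c) the centralizer of the `p`-th powers of the centre of `U`
  have hUP : U ≤ cenPow p S (zen U) := by
    intro u hu
    rw [mem_cenPow]
    refine ⟨hUS hu, fun v hv => ?_⟩
    have h3 : Commute u v := (mem_zen.1 hv).2 u hu
    exact (h3.pow_right p).eq
  have hPS : cenPow p S (zen U) ≤ S := inf_le_left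
  have hSnP : S ≤ Subgroup.normalizer (cenPow p S (zen U) : Set Ω) := cenPow_normalizer hSnZ
  have hPne : cenPow p S (zen U) ≠ U := by
    intro hPU
    apply h1
    by_cases hex : ∃ A ∈ abMax S, ∃ a ∈ A, ∃ v ∈ zen U, a * v ≠ v * a
    · exfalso
      obtain ⟨g, hgS, ⟨v, hv, hne⟩, hgc⟩ :=
        exists_centralizing_pow hS hZS (zen_isAb U) hSnZ hex
      have hgP : g ∈ cenPow p S (zen U) :=
        mem_cenPow.2 ⟨hgS, fun w hw => mul_inv_eq_iff_eq_mul.1 (hgc w hw)⟩
      rw [hPU] at hgP
      exact hne ((mem_zen.1 hv).2 g hgP)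
    · push_neg at hex
      rw [thompson_le_iff]
      intro A hA a ha
      apply hUR
      rw [← hPU, mem_cenPow]
      refine ⟨hA.1 ha, fun v hv => ?_⟩
      have h3 : Commute a v := hex A hA a ha v hv
      exact (h3.pow_right p).eq
  -- (d) it lies in `R`
  have hZRU : zen R ≤ zen U := by
    intro v hv
    rw [mem_zen] at hv ⊢
    have hvu : ∀ u ∈ U, u * v = v * u := fun u hu => hv.2 u (hUR hu)
    exact ⟨hCU v (hR hv.1) hvu, hvu⟩
  have hPR : cenPow p S (zen U) ≤ R := by
    apply le_of_inf_normalizer_le hS hR hPS hSnP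
    intro g hg hgn
    by_contra hgR
    apply h2
    refine ⟨g, ⟨hPS hg, hgn⟩, hgR, fun v hv => ?_⟩
    exact (mem_cenPow.1 hg).2 v (hZRU hv)
  -- (e) it is not normal in the system
  have hPnn : ¬ F.IsNormal (cenPow p S (zen U)) := by
    intro hPn
    have h3 := hUmax _ hPn (hQU.trans hUP) hPR
    have hfinP : Finite (cenPow p S (zen U)) := finite_of_le hPS
    exact hPne (Subgroup.eq_of_le_of_card_ge hUP h3).symm
  have hPfn : F.IsFullyNormalized (cenPow p S (zen U)) :=
    isFullyNormalized_of_normal F hPS hSnP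
  -- (f) the automorphisms of `R` preserve it
  have hU1 : ∀ γ ∈ F.autGroup R, ∀ x : R, (x : Ω) ∈ U → ((γ x : R) : Ω) ∈ U :=
    fun γ hγ x hx => stronglyClosed_aut_mem F hUsc hR hγ x hx
  have hZ1 : ∀ γ ∈ F.autGroup R, ∀ x : R, (x : Ω) ∈ zen U → ((γ x : R) : Ω) ∈ zen U := by
    intro γ hγ x hx
    rw [mem_zen] at hx ⊢
    refine ⟨hU1 γ hγ x hx.1, fun u hu => ?_⟩
    have hγi : γ⁻¹ ∈ F.autGroup R := (F.autGroup R).inv_mem hγ
    have h3 := hx.2 _ (hU1 γ⁻¹ hγi ⟨u, hUR hu⟩ hu)
    have h4 : γ⁻¹ ⟨u, hUR hu⟩ * x = x * γ⁻¹ ⟨u, hUR hu⟩ := Subtype.ext h3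
    have h5 := congrArg (fun z : R => ((γ z : R) : Ω)) h4
    simp only [map_mul, MulAut.apply_inv_self, Subgroup.coe_mul] at h5
    exact h5
  have hpres : ∀ γ ∈ F.autGroup R, ∀ x : R, (x : Ω) ∈ cenPow p S (zen U) →
      ((γ x : R) : Ω) ∈ cenPow p S (zen U) := by
    intro γ hγ x hx
    rw [mem_cenPow] at hx ⊢
    refine ⟨hR (γ x).2, fun w hw => ?_⟩
    have hγi : γ⁻¹ ∈ F.autGroup R := (F.autGroup R).inv_mem hγ
    have hwR : w ∈ R := hUR (mem_zen.1 hw).1
    have h3 := hx.2 _ (hZ1 γ⁻¹ hγi ⟨w, hwR⟩ hw)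
    have h4 : x * (γ⁻¹ ⟨w, hwR⟩) ^ p = (γ⁻¹ ⟨w, hwR⟩) ^ p * x := Subtype.ext h3
    have h5 := congrArg (fun z : R => ((γ z : R) : Ω)) h4
    simp only [map_mul, map_pow, MulAut.apply_inv_self, Subgroup.coe_mul,
      Subgroup.coe_pow] at h5
    exact h5
  have hαP : R.subtype.comp α.toMonoidHom ∈ F.normalizerHom (cenPow p S (zen U)) R :=
    aut_normalizerHom F hR hPR (hR.trans hSnP) hα (hpres α hα)
      (hpres α⁻¹ ((F.autGroup R).inv_mem hα))
  refine ind_step hS F hF IH E hCE hNE hPfn hPnn hR hbig (Or.inl ?_) hαP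
  exact le_antisymm inf_le_left (le_inf le_rfl hSnP)

/-- The generation property, given the same property for all saturated systems with fewer
maps. -/
theorem gen_core [Finite S] {p : ℕ} [Fact p.Prime] (hS : IsPGroup p S) (F : FusionSystem S)
    (hF : F.IsSaturated p)
    (IH : ∀ (M : Subgroup Ω) (N : FusionSystem M), Finite M → IsPGroup p M → N.IsSaturated p →
      mu N < mu F → GenProp p N) : GenProp p F := by
  intro E hCE hNE
  refine alperin hS F hF E ?_
  intro R hfa hrec hc hr hbig α hα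
  have hR : R ≤ S := hrec.1
  have hfinR : Finite R := finite_of_le hR
  by_cases h1 : thompsonSubgroupAOf S ≤ R
  · exact case_thompson F E hNE hR h1 hα
  by_cases h2 : ∃ g ∈ normalizerIn S R, g ∉ R ∧ ∀ v ∈ zen R, g * v ^ p = v ^ p * g
  · obtain ⟨g, hgN, hgR, hgc⟩ := h2
    exact fr_pow F E hCE hfa hrec hc hbig hgN hgR hgc hα
  have hJT : thompsonSubgroupAOf (normalizerIn S R) ≤ R := thompson_normalizer_le hS hR h2
  have hRT : R ≤ normalizerIn S R := le_normalizerIn hR
  have hTS : normalizerIn S R ≤ S := inf_le_left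
  have hfinT : Finite (normalizerIn S R) := finite_of_le hTS
  have hQT : thompsonSubgroupAOf R = thompsonSubgroupAOf (normalizerIn S R) :=
    thompson_eq_of_le hRT hJT
  have hTne : normalizerIn S R ≠ S := by
    intro heq
    apply h1
    have h3 := hJT
    rw [heq] at h3
    exact h3
  have hQS : thompsonSubgroupAOf R ≤ S := (thompson_le_self R).trans hR
  have hTM : normalizerIn S R ≤ normalizerIn S (thompsonSubgroupAOf R) :=
    inf_le_inf_left S (normalizer_le_normalizer_thompson R)
  obtain ⟨g, hgN, hgT⟩ := exists_normalizerIn_not_mem hS (P := normalizerIn S R) hTS hTne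
  have hgM : g ∈ normalizerIn S (thompsonSubgroupAOf R) := by
    refine ⟨hgN.1, ?_⟩
    have h3 : g ∈ Subgroup.normalizer
        ((thompsonSubgroupAOf (normalizerIn S R) : Subgroup Ω) : Set Ω) :=
      normalizer_le_normalizer_thompson (normalizerIn S R) hgN.2
    rw [← hQT] at h3
    exact h3
  have hfinM : Finite (normalizerIn S (thompsonSubgroupAOf R)) := finite_of_le inf_le_left
  have hlt : Nat.card R < Nat.card (normalizerIn S (thompsonSubgroupAOf R)) := by
    have h3 : Nat.card R ≤ Nat.card (normalizerIn S R) := Subgroup.card_le_of_le hRT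
    have h4 : Nat.card (normalizerIn S R)
        < Nat.card (normalizerIn S (thompsonSubgroupAOf R)) := by
      by_contra hcon
      have heq := Subgroup.eq_of_le_of_card_ge hTM (not_lt.1 hcon)
      exact hgT (heq ▸ hgM)
    omega
  obtain ⟨Q', hconj, hQ'fn⟩ := Helper84.exists_fullyNormalized_conj F hQS
  have hQ'fa := Helper84.fullyAutomized_of_fullyNormalized p hS F hF hQ'fn
  have hQ'rec := Helper84.receptive_of_fullyCentralized p hS F hF
    (Helper84.fullyCentralized_of_fullyNormalized p hS F hF hQ'fn)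
  obtain ⟨χ, hχ, hle, hrange⟩ := exists_hom_normalizerIn hS F hconj hQ'fa hQ'rec
  have hχE : χ ∈ E.Hom (normalizerIn S (thompsonSubgroupAOf R)) := hbig _ hlt hχ
  have hRM : R ≤ normalizerIn S (thompsonSubgroupAOf R) := hRT.trans hTM
  have hχRF : χ.comp (Subgroup.inclusion hRM) ∈ F.Hom R := hom_restrict F hRM hχ
  have hχRE : χ.comp (Subgroup.inclusion hRM) ∈ E.Hom R := hom_restrict E hRM hχE
  obtain ⟨R', hR'def⟩ : ∃ R' : Subgroup Ω, (χ.comp (Subgroup.inclusion hRM)).range = R' :=
    ⟨_, rfl⟩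
  obtain ⟨e, he_apply, heF, heE⟩ : ∃ e : R ≃* R',
      (∀ x : R, ((e x : R') : Ω) = χ (Subgroup.inclusion hRM x)) ∧ IsIso F e ∧ IsIso E e :=
    ⟨isoOfHom _ (F.injective_of_mem hχRF) hR'def, fun x => rfl,
      isIso_isoOfHom F hχRF hR'def, isIso_isoOfHom E hχRE hR'def⟩
  have hR'S : R' ≤ S := heF.le_right
  have hfinR' : Finite R' := finite_of_le hR'S
  have hconjR : F.IsConj R R' := (isConj_iff_exists_iso F R R').2 ⟨e, heF⟩
  have hc' : F.IsCentric R' := isCentric_of_isConj F hc hconjR
  have hcard : Nat.card R' = Nat.card R := (Nat.card_congr e.toEquiv).symm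
  have hbig' : ∀ P : Subgroup Ω, Nat.card R' < Nat.card P → F.Hom P ⊆ E.Hom P := by
    rw [hcard]
    exact hbig
  have hRfn : F.IsFullyNormalized R := Helper84.fullyNormalized_of_fa_receptive p hS F hfa hrec
  have hfn' : F.IsFullyNormalized R' := by
    refine ⟨hR'S, fun R'' hR'' => ?_⟩
    have h3 := hRfn.2 R'' (isConj_trans F hconjR hR'')
    have h4 : Nat.card (normalizerIn S R) ≤ Nat.card (normalizerIn S R') := by
      have hfinT' : Finite (normalizerIn S R') := finite_of_le inf_le_left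
      have hmem : ∀ t : normalizerIn S R, χ (Subgroup.inclusion hTM t) ∈ normalizerIn S R' := by
        intro t
        refine ⟨hom_mem F hχ _, ?_⟩
        apply mem_normalizer_of_conj_le
        intro y hy
        rw [← hR'def] at hy
        obtain ⟨r, rfl⟩ := hy
        have hn : (t : Ω) * (r : Ω) * (t : Ω)⁻¹ ∈ R :=
          (Subgroup.mem_normalizer_iff.1 t.2.2 r).1 r.2
        rw [← hR'def]
        refine ⟨⟨(t : Ω) * (r : Ω) * (t : Ω)⁻¹, hn⟩, ?_⟩
        show χ (Subgroup.inclusion hRM ⟨(t : Ω) * (r : Ω) * (t : Ω)⁻¹, hn⟩)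
          = χ (Subgroup.inclusion hTM t) * χ (Subgroup.inclusion hRM r)
            * (χ (Subgroup.inclusion hTM t))⁻¹
        rw [← map_inv χ, ← map_mul χ, ← map_mul χ]
        rfl
      exact Nat.card_le_card_of_injective
        (fun t : normalizerIn S R => (⟨χ (Subgroup.inclusion hTM t), hmem t⟩ : normalizerIn S R'))
        (fun a b hab => Subgroup.inclusion_injective hTM
          (F.injective_of_mem hχ (congrArg Subtype.val hab)))
    omega
  -- the Thompson subgroup of `R'` is `Q'`
  have hJR' : thompsonSubgroupAOf R' = Q' := by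
    rw [thompson_imgE e, ← hrange]
    ext y
    constructor
    · rintro ⟨x, hx, rfl⟩
      exact ⟨⟨x, hx⟩, (he_apply x).symm⟩
    · rintro ⟨x, rfl⟩
      exact ⟨⟨x, thompson_le_self R x.2⟩, x.2, he_apply _⟩
  have hQfn' : F.IsFullyNormalized (thompsonSubgroupAOf R') := by
    rw [hJR']
    exact hQ'fn
  have hα' : MulAut.congr e α ∈ F.autGroup R' := congr_mem_autGroup F heF hα
  have hα'E : IsIso E ((MulAut.congr e α : MulAut R') : R' ≃* R') :=
    lemA hS F hF IH E hCE hNE hfn' hc' hbig' hQfn' hα'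
  have h5 : IsIso E ((e.trans (MulAut.congr e α : R' ≃* R')).trans e.symm) :=
    (heE.trans hα'E).trans heE.symm
  have h6 : (e.trans (MulAut.congr e α : R' ≃* R')).trans e.symm = (α : R ≃* R) := by
    apply MulEquiv.ext
    intro x
    show e.symm (e (α (e.symm (e x)))) = α x
    rw [MulEquiv.symm_apply_apply, MulEquiv.symm_apply_apply]
  rw [h6] at h5
  exact h5

/-- **Generation by the centralizer of the `p`-th powers of the centre and the normalizer of the
Thompson subgroup**, for all saturated fusion systems on finite `p`-subgroups of `Ω`. -/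
theorem gen_main (p : ℕ) [Fact p.Prime] : ∀ n : ℕ, ∀ (S : Subgroup Ω) (F : FusionSystem S),
    Finite S → IsPGroup p S → F.IsSaturated p → mu F = n → GenProp p F := by
  intro n
  induction n using Nat.strong_induction_on with
  | _ n ih =>
    intro S F hfin hS hF hn
    exact gen_core hS F hF (fun M N h1 h2 h3 h4 => ih (mu N) (hn ▸ h4) M N h1 h2 h3 rfl)

end Cfsg.Agent.Lib.Helper87
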