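import Mathlib
import Cfsg.Prelude.Def_Local
import Cfsg.Prelude.Def_Transfer
import Cfsg.Agent.Lib.Helper63.HallHigman
import Cfsg.Agent.Lib.Helper69.PSolvable
import Cfsg.Agent.Lib.Helper69.CyclicSylow
import Cfsg.Agent.Lib.Helper87.FusionHyp

set_option autoImplicit false

namespace Cfsg.Agent.Lib.Helper87

open Cfsg

universe u

theorem mem_of_coprime_index87 {G : Type*} [Group G] [Finite G] (M : Subgroup G) [M.Normal]
    {g : G} (h : (orderOf g).Coprime M.index) : g ∈ M := by
  have h1 : orderOf (QuotientGroup.mk' M g) ∣ orderOf g := orderOf_map_dvd _ g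
  have h2 : orderOf (QuotientGroup.mk' M g) ∣ M.index := by
    rw [Subgroup.index_eq_card]
    exact orderOf_dvd_natCard _
  have h3 : orderOf (QuotientGroup.mk' M g) = 1 := by
    apply Nat.dvd_one.mp
    have h4 := Nat.dvd_gcd h1 h2
    rwa [Nat.Coprime.gcd_eq_one h] at h4
  have h5 := orderOf_eq_one_iff.mp h3
  exact (QuotientGroup.eq_one_iff g).mp h5

theorem card_lt_of_ne_top87 {G : Type*} [Group G] [Finite G] {M : Subgroup G} (hM : M ≠ ⊤) :
    Nat.card M < Nat.card G := by
  apply lt_of_le_of_ne (Subgroup.card_le_card_group M)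
  intro h
  exact hM (Subgroup.eq_top_of_card_eq M h)

/-- **(R4)** extensions of `p`-soluble groups by `p`-soluble groups are `p`-soluble. -/
theorem isPSolvable_of_normal_aux87 (p : ℕ) [Fact p.Prime] :
    ∀ (n : ℕ) (G : Type u) [Group G] [Finite G] (N : Subgroup G) [N.Normal], Nat.card N = n →
      IsPSolvable p ↥N → IsPSolvable p (G ⧸ N) → IsPSolvable p G := by
  intro n
  induction n using Nat.strong_induction_on with
  | _ n ih =>
    intro G _ _ N _ hn hN hQ
    by_cases hN1 : N = ⊥
    · refine Helper69.isPSolvable_of_quotient p N (Or.inl ⟨0, ?_⟩) hQ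
      rw [hN1]
      simp
    · haveI : Nontrivial N := (Subgroup.nontrivial_iff_ne_bot N).mpr hN1
      obtain ⟨M, hMn, hM1, hM⟩ := Helper69.exists_normal_of_isPSolv p hN
      have hex : ∃ M₀ : Subgroup N, M₀.Characteristic ∧ M₀ ≠ ⊥ ∧
          ((∃ m : ℕ, Nat.card M₀ = p ^ m) ∨ (Nat.card M₀).Coprime p) := by
        rcases hM with hM | hM
        · refine ⟨pCore p N, Helper63.pCore_characteristic' p N, ?_, Or.inl ?_⟩
          · intro h0
            apply hM1
            have := Helper63.le_pCore' hMn hM
            rw [h0] at this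
            exact le_bot_iff.mp this
          · exact (Helper63.pCore_isPGroup' p N).exists_card_eq
        · refine ⟨pPrimeCore p N, Helper63.pPrimeCore_characteristic' p N, ?_,
            Or.inr (Helper63.card_pPrimeCore_coprime' p N)⟩
          intro h0
          apply hM1
          have := Helper63.le_pPrimeCore' hMn hM
          rw [h0] at this
          exact le_bot_iff.mp this
      obtain ⟨M₀, hchar, hM₀1, hM₀⟩ := hex
      haveI := hchar
      haveI hKn : (M₀.map N.subtype).Normal := ConjAct.normal_of_characteristic_of_normal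
      have hKN : M₀.map N.subtype ≤ N := Subgroup.map_subtype_le _
      have hcardK : Nat.card (M₀.map N.subtype) = Nat.card M₀ :=
        Subgroup.card_map_of_injective (Subgroup.subtype_injective N)
      have hπ : Function.Surjective (QuotientGroup.mk' (M₀.map N.subtype)) :=
        QuotientGroup.mk'_surjective _
      haveI : (N.map (QuotientGroup.mk' (M₀.map N.subtype))).Normal :=
        Subgroup.Normal.map inferInstance _ hπ
      have hsurj := (QuotientGroup.mk' (M₀.map N.subtype)).subgroupMap_surjective N
      have hlt : Nat.card (N.map (QuotientGroup.mk' (M₀.map N.subtype))) < n := by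
        classical
        rw [← hn]
        haveI : Fintype N := Fintype.ofFinite _
        haveI : Fintype (N.map (QuotientGroup.mk' (M₀.map N.subtype))) := Fintype.ofFinite _
        rw [Nat.card_eq_fintype_card, Nat.card_eq_fintype_card]
        apply Fintype.card_lt_of_surjective_not_injective _ hsurj
        intro hinj
        apply hM₀1
        rw [eq_bot_iff]
        intro x hx
        have hxK : (x : G) ∈ M₀.map N.subtype := ⟨x, hx, rfl⟩
        have h1 : (QuotientGroup.mk' (M₀.map N.subtype)).subgroupMap N x =
            (QuotientGroup.mk' (M₀.map N.subtype)).subgroupMap N 1 := by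
          apply Subtype.ext
          show QuotientGroup.mk' (M₀.map N.subtype) (x : G) =
            QuotientGroup.mk' (M₀.map N.subtype) ((1 : N) : G)
          rw [Subgroup.coe_one, map_one]
          exact (QuotientGroup.eq_one_iff _).mpr hxK
        rw [Subgroup.mem_bot]
        exact hinj h1
      have h1 : IsPSolvable p (N.map (QuotientGroup.mk' (M₀.map N.subtype))) :=
        Helper69.isPSolvable_of_surj p _ hsurj hN
      have hle : N ≤ (N.map (QuotientGroup.mk' (M₀.map N.subtype))).comap
          (QuotientGroup.mk' (M₀.map N.subtype)) := Subgroup.le_comap_map _ _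
      have h2 : IsPSolvable p ((G ⧸ M₀.map N.subtype) ⧸
          N.map (QuotientGroup.mk' (M₀.map N.subtype))) := by
        refine Helper69.isPSolvable_of_surj p (QuotientGroup.map N
          (N.map (QuotientGroup.mk' (M₀.map N.subtype)))
          (QuotientGroup.mk' (M₀.map N.subtype)) hle) ?_ hQ
        intro y
        obtain ⟨y', rfl⟩ := QuotientGroup.mk_surjective y
        obtain ⟨g, rfl⟩ := hπ y'
        exact ⟨QuotientGroup.mk g, rfl⟩
      have h3 := ih _ hlt (G ⧸ M₀.map N.subtype)
        (N.map (QuotientGroup.mk' (M₀.map N.subtype))) rfl h1 h2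
      refine Helper69.isPSolvable_of_quotient p (M₀.map N.subtype) ?_ h3
      rw [hcardK]
      exact hM₀

theorem isPSolvable_of_normal87 {G : Type u} [Group G] [Finite G] (p : ℕ) [Fact p.Prime]
    (N : Subgroup G) [N.Normal] (hN : IsPSolvable p ↥N) (hQ : IsPSolvable p (G ⧸ N)) :
    IsPSolvable p G :=
  isPSolvable_of_normal_aux87 p _ G N rfl hN hQ

/-- **(R5)** in a nontrivial finite `p`-soluble group, `O^p(O^{p'}(G))` is a proper subgroup. -/
theorem card_pResidual_lt87 {G : Type u} [Group G] [Finite G] [Nontrivial G] (p : ℕ)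
    [Fact p.Prime] (h : IsPSolvable p G) :
    Nat.card (pResidual p ↥(Subgroup.closure {g : G | ∃ k : ℕ, orderOf g = p ^ k})) <
      Nat.card G := by
  obtain ⟨n, H, h0, hlast, hmono, hnorm, hfac⟩ := h
  have hex : ∃ i : Fin n, H i.castSucc ≠ ⊤ ∧ H i.succ = ⊤ := by
    by_contra hcon
    push_neg at hcon
    have hall : ∀ i : Fin (n + 1), H i = ⊤ := by
      intro i
      induction i using Fin.reverseInduction with
      | last => exact hlast
      | cast i hi =>
        by_contra hne
        exact hcon i hne hi
    have h1 := hall 0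
    rw [h0] at h1
    exact bot_ne_top h1
  obtain ⟨i, hi0, hi1⟩ := hex
  haveI := hnorm i.castSucc
  have hidx := hfac i
  rw [hi1, Subgroup.relIndex_top_right] at hidx
  have hle : Nat.card (pResidual p ↥(Subgroup.closure {g : G | ∃ k : ℕ, orderOf g = p ^ k})) ≤
      Nat.card (H i.castSucc) := by
    rcases hidx with ⟨m, hm⟩ | hcop
    · have h1 : (pResidual p ↥(Subgroup.closure {g : G | ∃ k : ℕ, orderOf g = p ^ k})).map
          (Subgroup.closure {g : G | ∃ k : ℕ, orderOf g = p ^ k}).subtype ≤ H i.castSucc := by
        rw [map_pResidual_eq_closure, Subgroup.closure_le]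
        rintro a ⟨-, ha⟩
        apply mem_of_coprime_index87
        rw [hm]
        exact Nat.Coprime.pow_right m ha
      rw [← Subgroup.card_map_of_injective (Subgroup.subtype_injective _)]
      exact Subgroup.card_le_of_le h1
    · have h1 : Subgroup.closure {g : G | ∃ k : ℕ, orderOf g = p ^ k} ≤ H i.castSucc := by
        rw [Subgroup.closure_le]
        rintro a ⟨k, hk⟩
        apply mem_of_coprime_index87
        rw [hk]
        exact Nat.Coprime.pow_left k hcop.symm
      exact (Subgroup.card_le_card_group _).trans (Subgroup.card_le_of_le h1)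
  exact lt_of_le_of_lt hle (card_lt_of_ne_top87 hi0)

end Cfsg.Agent.Lib.Helper87
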