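import Mathlib
import Cfsg.Prelude.Def_FusionSystem
import Cfsg.Agent.Lib.Helper87.SC6

set_option autoImplicit false

namespace Cfsg.Agent.Lib.Helper87

open Cfsg Cfsg.FusionSystem

variable {Ω : Type*} [Group Ω] {S : Subgroup Ω} {p : ℕ} {c₀ : Ω}

/-- The central elements that stay central under all automorphisms of centric subgroups
different from `S`. -/
def Qtwo (F : FusionSystem S) : Subgroup Ω where
  carrier := {x | x ∈ centralizerIn S S ∧ ∀ R : Subgroup Ω, F.IsCentric R → R ≠ S →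
    ∀ β ∈ F.autGroup R, ∀ h : x ∈ R, ((β ⟨x, h⟩ : R) : Ω) ∈ centralizerIn S S}
  mul_mem' := by
    rintro a b ⟨ha, ha'⟩ ⟨hb, hb'⟩
    refine ⟨Subgroup.mul_mem _ ha hb, fun R hc hne β hβ h => ?_⟩
    have hZR := cen_le_of_centric F hc
    have h1 : (⟨a * b, h⟩ : R) = ⟨a, hZR ha⟩ * ⟨b, hZR hb⟩ := rfl
    rw [h1, map_mul, Subgroup.coe_mul]
    exact Subgroup.mul_mem _ (ha' R hc hne β hβ _) (hb' R hc hne β hβ _)
  one_mem' := by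
    refine ⟨Subgroup.one_mem _, fun R hc hne β hβ h => ?_⟩
    have h1 : (⟨1, h⟩ : R) = 1 := rfl
    rw [h1, map_one]
    exact Subgroup.one_mem _
  inv_mem' := by
    rintro a ⟨ha, ha'⟩
    refine ⟨Subgroup.inv_mem _ ha, fun R hc hne β hβ h => ?_⟩
    have hZR := cen_le_of_centric F hc
    have h1 : (⟨a⁻¹, h⟩ : R) = (⟨a, hZR ha⟩ : R)⁻¹ := rfl
    rw [h1, map_inv, Subgroup.coe_inv]
    exact Subgroup.inv_mem _ (ha' R hc hne β hβ _)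

/-- The central elements `x` of `S` lying in `R` with `α⁻¹ x` central. -/
def R0 (S R : Subgroup Ω) (α : MulAut R) : Subgroup Ω where
  carrier := {x | x ∈ centralizerIn S S ∧
    ∃ h : x ∈ R, ((α⁻¹ ⟨x, h⟩ : R) : Ω) ∈ centralizerIn S S}
  mul_mem' := by
    rintro a b ⟨ha, ha1, ha2⟩ ⟨hb, hb1, hb2⟩
    refine ⟨Subgroup.mul_mem _ ha hb, R.mul_mem ha1 hb1, ?_⟩
    have h1 : (⟨a * b, R.mul_mem ha1 hb1⟩ : R) = ⟨a, ha1⟩ * ⟨b, hb1⟩ := rfl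
    rw [h1, map_mul, Subgroup.coe_mul]
    exact Subgroup.mul_mem _ ha2 hb2
  one_mem' := by
    refine ⟨Subgroup.one_mem _, R.one_mem, ?_⟩
    have h1 : (⟨1, R.one_mem⟩ : R) = 1 := rfl
    rw [h1, map_one]
    exact Subgroup.one_mem _
  inv_mem' := by
    rintro a ⟨ha, ha1, ha2⟩
    refine ⟨Subgroup.inv_mem _ ha, R.inv_mem ha1, ?_⟩
    have h1 : (⟨a⁻¹, R.inv_mem ha1⟩ : R) = (⟨a, ha1⟩ : R)⁻¹ := rfl
    rw [h1, map_inv, Subgroup.coe_inv]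
    exact Subgroup.inv_mem _ ha2

theorem mem_R0_coe {R : Subgroup Ω} (α : MulAut R) (x : R) :
    (x : Ω) ∈ R0 S R α ↔
      (x : Ω) ∈ centralizerIn S S ∧ ((α⁻¹ x : R) : Ω) ∈ centralizerIn S S := by
  constructor
  · rintro ⟨h1, h2, h3⟩
    exact ⟨h1, h3⟩
  · rintro ⟨h1, h3⟩
    exact ⟨h1, x.2, h3⟩

theorem SCData.two_active' [Finite S] (D : SCData 2 S c₀) (hS : IsPGroup 2 S)
    (F : FusionSystem S) (hF : F.IsSaturated 2) {R : Subgroup Ω} (hc : F.IsCentric R)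
    (hne : R ≠ S) (hc₀R : c₀ ∈ R) {α : MulAut R} (hα : α ∈ F.autGroup R)
    (hαc : α ⟨c₀, hc₀R⟩ ≠ ⟨c₀, hc₀R⟩) :
    ((α ⟨c₀, hc₀R⟩ : R) : Ω) ∉ centralizerIn S S ∧
    ((α ⟨c₀, hc₀R⟩ : R) : Ω) * ((α ⟨c₀, hc₀R⟩ : R) : Ω) = 1 ∧
    (∀ β ∈ F.autGroup R, ((β ⟨c₀, hc₀R⟩ : R) : Ω) = c₀ ∨
      ((β ⟨c₀, hc₀R⟩ : R) : Ω) = ((α ⟨c₀, hc₀R⟩ : R) : Ω) ∨
      ((β ⟨c₀, hc₀R⟩ : R) : Ω) = c₀ * ((α ⟨c₀, hc₀R⟩ : R) : Ω)) ∧
    (∀ β ∈ F.autGroup R, ∀ x : R, (x : Ω) ∈ R0 S R α → ((β x : R) : Ω) ∈ R0 S R α) ∧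
    (∀ z ∈ centralizerIn S S, z ∈ R0 S R α ∨ z * c₀ ∈ R0 S R α) ∧
    c₀ ∉ R0 S R α ∧
    (∀ β ∈ F.autGroup R, ∃ l ∈ F.autGroup R, ∃ n ∈ F.autGroup R, β = l * n ∧
      (∃ θ ∈ F.autGroup S, ∀ x : R, ((θ ⟨x, hc.1 x.2⟩ : S) : Ω) = ((n x : R) : Ω)) ∧
      ∀ x : R, (x : Ω) ∈ R0 S R α → l x = x) ∧
    (∀ β ∈ F.autGroup R, (∀ x : R, (x : Ω) ∈ R0 S R α → β x = x) →
      ∀ x : R, (x : Ω)⁻¹ * ((β x : R) : Ω) ∈
        Subgroup.closure ({c₀, ((α ⟨c₀, hc₀R⟩ : R) : Ω)} : Set Ω)) := by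
  obtain ⟨h1, h2, h3, h4, h5, h6, h7, h8⟩ := D.two_active hS F hF hc hne hc₀R hα hαc
  have hZR := cen_le_of_centric F hc
  refine ⟨h1, h2, ?_, ?_, ?_, ?_, ?_, ?_⟩
  · intro β hβ
    rcases h3 β hβ with h | h | h
    · left
      rw [h]
    · right
      left
      rw [h]
    · right
      right
      rw [h]
      rfl
  · intro β hβ x hx
    rw [mem_R0_coe] at hx ⊢
    exact h4 β hβ x hx.1 hx.2
  · intro z hz
    rcases h5 ⟨z, hZR hz⟩ hz with h | h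
    · left
      exact ⟨hz, hZR hz, h⟩
    · right
      exact ⟨Subgroup.mul_mem _ hz D.hc₀Z, R.mul_mem (hZR hz) hc₀R, h⟩
  · rintro ⟨-, h, h'⟩
    exact h6 h'
  · intro β hβ
    obtain ⟨l, hl, n, hn, hβln, hθ, hlfix⟩ := h7 β hβ
    refine ⟨l, hl, n, hn, hβln, hθ, fun x hx => ?_⟩
    rw [mem_R0_coe] at hx
    exact hlfix x hx.1 hx.2
  · intro β hβ hfix x
    refine h8 β hβ (fun y hy hy' => hfix y ?_) x
    rw [mem_R0_coe]
    exact ⟨hy, hy'⟩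

theorem SCData.two_aut_c₀ (D : SCData 2 S c₀) (δ : MulAut S) :
    δ ⟨c₀, D.c₀S⟩ = ⟨c₀, D.c₀S⟩ := by
  have hc2 : (⟨c₀, D.c₀S⟩ : S) ^ 2 = 1 := Subtype.ext (by
    rw [Subgroup.coe_pow]
    exact D.hc₀p)
  rcases mem_zpowers_two hc2 (D.aut_c₀ δ) with h | h
  · exfalso
    apply D.hc₀1
    have h1 : δ ⟨c₀, D.c₀S⟩ = δ 1 := by rw [h, map_one]
    exact congrArg Subtype.val (δ.injective h1)
  · exact h

theorem SCData.Qtwo_aut [Finite S] [Fact p.Prime] (D : SCData p S c₀) (F : FusionSystem S)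
    {δ : MulAut S} (hδ : δ ∈ F.autGroup S) (x : S) (hx : (x : Ω) ∈ Qtwo F) :
    ((δ x : S) : Ω) ∈ Qtwo F := by
  refine ⟨D.aut_central δ hx.1, fun R hc hne β hβ h => ?_⟩
  have hRS := hc.1
  obtain ⟨R', e, he, hex⟩ := exists_transport F ((F.autGroup S).inv_mem hδ) hRS
  have hc' : F.IsCentric R' :=
    isCentric_of_isConj F hc ((isConj_iff_exists_iso F R R').2 ⟨e, he⟩)
  have hne' : R' ≠ S := by
    intro h1
    apply hne
    have h2 : Nat.card R = Nat.card R' := Nat.card_congr e.toEquiv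
    rw [h1] at h2
    exact Subgroup.eq_of_le_of_card_ge hRS h2.symm.le
  have hβ' : MulAut.congr e β ∈ F.autGroup R' := congr_mem_autGroup F he hβ
  have hxR' : (x : Ω) ∈ R' := cen_le_of_centric F hc' hx.1
  have h3 := hx.2 R' hc' hne' _ hβ' hxR'
  have h4 : e ⟨δ x, h⟩ = ⟨x, hxR'⟩ := by
    apply Subtype.ext
    rw [hex]
    show ((δ⁻¹ (δ x) : S) : Ω) = x
    rw [MulAut.inv_apply_self]
  have h5 : (MulAut.congr e β) ⟨x, hxR'⟩ = e (β ⟨δ x, h⟩) := by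
    rw [← h4]
    show e (β (e.symm (e ⟨δ x, h⟩))) = _
    rw [MulEquiv.symm_apply_apply]
  rw [h5, hex] at h3
  have h6 := D.aut_central δ h3
  rw [MulAut.apply_inv_self] at h6
  exact h6

theorem SCData.Qtwo_normal [Finite S] (D : SCData 2 S c₀) (hS : IsPGroup 2 S)
    (F : FusionSystem S) (hF : F.IsSaturated 2) : F.IsNormal (Qtwo F) := by
  have hQZ : Qtwo F ≤ centralizerIn S S := fun x hx => hx.1
  refine isNormal_of_aut_invariant hS F hF (hQZ.trans inf_le_left)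
    (le_normalizer_of_le_center hQZ) ?_
  intro R _ _ hc _
  have hZR := cen_le_of_centric F hc
  have hRS := hc.1
  refine ⟨hQZ.trans hZR, fun α hα x hx => ?_⟩
  by_cases hne : R = S
  · subst hne
    exact D.Qtwo_aut F hα x hx
  have hc₀R : c₀ ∈ R := hZR D.hc₀Z
  by_cases hact : ∀ γ ∈ F.autGroup R, γ ⟨c₀, hc₀R⟩ = ⟨c₀, hc₀R⟩
  · obtain ⟨θ, hθ, hθx⟩ := D.two_inactive hS F hF hc hne hc₀R hα (hact α hα)
    rw [← hθx x]
    exact D.Qtwo_aut F hθ _ hx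
  · have hex : ∃ α₀ ∈ F.autGroup R, α₀ ⟨c₀, hc₀R⟩ ≠ ⟨c₀, hc₀R⟩ := by
      by_contra hno
      apply hact
      intro γ hγ
      by_contra hne'
      exact hno ⟨γ, hγ, hne'⟩
    obtain ⟨α₀, hα₀, hα₀c⟩ := hex
    obtain ⟨-, -, -, -, -, -, h5, -⟩ := D.two_active' hS F hF hc hne hc₀R hα₀ hα₀c
    obtain ⟨l, hl, n, hn, hαln, ⟨θ, hθ, hθx⟩, hlfix⟩ := h5 α hα
    have h1 : ((n x : R) : Ω) ∈ Qtwo F := by
      rw [← hθx x]
      exact D.Qtwo_aut F hθ _ hx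
    have h2 : ((n x : R) : Ω) ∈ R0 S R α₀ := by
      rw [mem_R0_coe]
      exact ⟨h1.1, h1.2 R hc hne α₀⁻¹ ((F.autGroup R).inv_mem hα₀) (n x).2⟩
    rw [hαln, MulAut.mul_apply, hlfix _ h2]
    exact h1

theorem SCData.eq_of_mem [Fact p.Prime] (D : SCData p S c₀) {R R' : Subgroup Ω} (hRS : R ≤ S)
    (hcR : centralizerIn S R ≤ R) (hne : R ≠ S) (hR'S : R' ≤ S)
    (hcR' : centralizerIn S R' ≤ R') (hne' : R' ≠ S) {r : Ω} (hr : r ∈ R)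
    (hrZ : r ∉ centralizerIn S S) (hr' : r ∈ R') : R = R' := by
  obtain ⟨hg, -, -, -, -⟩ := D.cen_struct hRS hcR hne
  obtain ⟨-, hab', -, -, -⟩ := D.cen_struct hR'S hcR' hne'
  have hle : R ≤ R' := by
    intro g hgR
    obtain ⟨i, z, hz, rfl⟩ := hg r hr hrZ g hgR
    exact R'.mul_mem (R'.pow_mem hr' i) (D.cen_le hR'S hcR' hz)
  exact le_antisymm hle (fun g hg' => hcR (mem_centralizerIn_iff.2
    ⟨hR'S hg', fun h hh => hab' h (hle hh) g hg'⟩))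

theorem small_of_inf {A B : Subgroup Ω} {c : Ω} (hAB : A ⊓ B = ⊥)
    (hB : ∀ y ∈ A, y ∈ B ∨ y * c ∈ B) : ∀ y ∈ A, ∀ y' ∈ A, y ≠ 1 → y' ≠ 1 → y = y' := by
  intro y hy y' hy' h1 h1'
  have key : ∀ w ∈ A, w ≠ 1 → w * c ∈ B := by
    intro w hw hw1
    rcases hB w hw with h | h
    · exfalso
      apply hw1
      have h2 : w ∈ A ⊓ B := ⟨hw, h⟩
      rw [hAB] at h2
      exact Subgroup.mem_bot.1 h2
    · exact h
  have h2 : y * y'⁻¹ ∈ A ⊓ B := by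
    refine ⟨A.mul_mem hy (A.inv_mem hy'), ?_⟩
    have h3 : y * y'⁻¹ = (y * c) * (y' * c)⁻¹ := by group
    rw [h3]
    exact B.mul_mem (key y hy h1) (B.inv_mem (key y' hy' h1'))
  rw [hAB, Subgroup.mem_bot] at h2
  exact mul_inv_eq_one.1 h2

end Cfsg.Agent.Lib.Helper87
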