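import Mathlib
import Cfsg.Prelude.Def_FusionSystem
import Cfsg.Agent.Lib.Helper87.SC7

set_option autoImplicit false

namespace Cfsg.Agent.Lib.Helper87

open Cfsg Cfsg.FusionSystem

variable {Ω : Type*} [Group Ω] {S : Subgroup Ω} {c₀ : Ω}

set_option maxHeartbeats 1600000 in
theorem SCData.two_main [Finite S] (D : SCData 2 S c₀) (hS : IsPGroup 2 S)
    (F : FusionSystem S) (hF : F.IsSaturated 2)
    (hcore : ∀ Q : Subgroup Ω, F.IsNormal Q → Q = ⊥) (hhyp : F.hyperfocalSubgroup 2 = S) :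
    (∀ z ∈ centralizerIn S S, z = 1 ∨ z = c₀) ∧
      ∃ c' ∈ S, c' ∉ centralizerIn S S ∧ c' * c' = 1 := by
  have hQbot : Qtwo F = ⊥ := hcore _ (D.Qtwo_normal hS F hF)
  have hc2 : c₀ ^ 2 = 1 := D.hc₀p
  have hc₀inv : c₀⁻¹ = c₀ := by
    rw [inv_eq_iff_mul_eq_one, ← pow_two]
    exact hc2
  -- an active pair exists
  have hex : ∃ (R₁ : Subgroup Ω) (_ : F.IsCentric R₁) (_ : R₁ ≠ S) (hc₀R₁ : c₀ ∈ R₁)
      (α₁ : MulAut R₁), α₁ ∈ F.autGroup R₁ ∧ α₁ ⟨c₀, hc₀R₁⟩ ≠ ⟨c₀, hc₀R₁⟩ := by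
    by_contra hcon
    have hZn : F.IsNormal (centralizerIn S S) := by
      refine center_normal_of_invariant D hS F hF ?_
      intro R hc hne α hα x hx
      have hc₀R : c₀ ∈ R := cen_le_of_centric F hc D.hc₀Z
      have hαc : α ⟨c₀, hc₀R⟩ = ⟨c₀, hc₀R⟩ := by
        by_contra hne'
        exact hcon ⟨R, hc, hne, hc₀R, α, hα, hne'⟩
      obtain ⟨θ, hθ, hθx⟩ := D.two_inactive hS F hF hc hne hc₀R hα hαc
      rw [← hθx x]
      exact D.aut_central θ hx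
    have h1 := hcore _ hZn
    have h2 : c₀ ∈ (⊥ : Subgroup Ω) := h1 ▸ D.hc₀Z
    exact D.hc₀1 (Subgroup.mem_bot.1 h2)
  obtain ⟨R₁, hc₁, hne₁, hc₀R₁, α₁, hα₁, hα₁c⟩ := hex
  obtain ⟨hF1, hF1', hF2, hF3, hF4, hF4', hF5, hF6⟩ :=
    D.two_active' hS F hF hc₁ hne₁ hc₀R₁ hα₁ hα₁c
  have hR₁S := hc₁.1
  refine ⟨?_, ((α₁ ⟨c₀, hc₀R₁⟩ : R₁) : Ω), hR₁S (Subtype.property _), hF1, hF1'⟩
  have hinact : ∀ (R : Subgroup Ω) (hc : F.IsCentric R) (_ : R ≠ S) (hc₀R : c₀ ∈ R),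
      (∀ γ ∈ F.autGroup R, γ ⟨c₀, hc₀R⟩ = ⟨c₀, hc₀R⟩) → ∀ β ∈ F.autGroup R,
        ∃ θ ∈ F.autGroup S, ∀ x : R, ((θ ⟨x, hc.1 x.2⟩ : S) : Ω) = ((β x : R) : Ω) :=
    fun R hc hne hc₀R h β hβ => D.two_inactive hS F hF hc hne hc₀R hβ (h β hβ)
  have hactive : ∀ (R : Subgroup Ω) (hc₀R : c₀ ∈ R),
      (¬ ∀ γ ∈ F.autGroup R, γ ⟨c₀, hc₀R⟩ = ⟨c₀, hc₀R⟩) →
        ∃ γ₀ ∈ F.autGroup R, γ₀ ⟨c₀, hc₀R⟩ ≠ ⟨c₀, hc₀R⟩ := by
    intro R hc₀R hact
    by_contra hno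
    apply hact
    intro γ hγ
    by_contra hne'
    exact hno ⟨γ, hγ, hne'⟩
  by_cases hB : ∃ (R₂ : Subgroup Ω) (_ : F.IsCentric R₂) (_ : R₂ ≠ S) (hc₀R₂ : c₀ ∈ R₂)
      (α₂ : MulAut R₂), α₂ ∈ F.autGroup R₂ ∧ α₂ ⟨c₀, hc₀R₂⟩ ≠ ⟨c₀, hc₀R₂⟩ ∧ R₂ ≠ R₁
  swap
  · -- only one active subgroup
    have hR0Q : R0 S R₁ α₁ ≤ Qtwo F := by
      intro x hx
      refine ⟨hx.1, fun R hc hne β hβ h => ?_⟩
      have hc₀R : c₀ ∈ R := cen_le_of_centric F hc D.hc₀Z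
      by_cases hact : ∀ γ ∈ F.autGroup R, γ ⟨c₀, hc₀R⟩ = ⟨c₀, hc₀R⟩
      · obtain ⟨θ, hθ, hθx⟩ := hinact R hc hne hc₀R hact β hβ
        rw [← hθx ⟨x, h⟩]
        exact D.aut_central θ hx.1
      · obtain ⟨γ₀, hγ₀, hγ₀c⟩ := hactive R hc₀R hact
        have hRR₁ : R = R₁ := by
          by_contra hne'
          exact hB ⟨R, hc, hne, hc₀R, γ₀, hγ₀, hγ₀c, hne'⟩
        subst hRR₁
        exact (hF3 β hβ ⟨x, h⟩ hx).1
    intro z hz
    rcases hF4 z hz with h | h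
    · left
      have h1 := hR0Q h
      rw [hQbot, Subgroup.mem_bot] at h1
      exact h1
    · right
      have h1 := hR0Q h
      rw [hQbot, Subgroup.mem_bot] at h1
      rw [← hc₀inv]
      exact eq_inv_of_mul_eq_one_left h1
  -- two active subgroups
  obtain ⟨R₂, hc₂, hne₂, hc₀R₂, α₂, hα₂, hα₂c, hR₂₁⟩ := hB
  obtain ⟨hG1, hG1', hG2, hG3, hG4, hG4', hG5, hG6⟩ :=
    D.two_active' hS F hF hc₂ hne₂ hc₀R₂ hα₂ hα₂c
  have hR₂S := hc₂.1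
  obtain ⟨-, hcR₁⟩ := D.centric_facts F hc₁
  obtain ⟨-, hcR₂⟩ := D.centric_facts F hc₂
  have hZR₁ := cen_le_of_centric F hc₁
  have hZR₂ := cen_le_of_centric F hc₂
  have hc'₁R : ((α₁ ⟨c₀, hc₀R₁⟩ : R₁) : Ω) ∈ R₁ := Subtype.property _
  have hc'₂R : ((α₂ ⟨c₀, hc₀R₂⟩ : R₂) : Ω) ∈ R₂ := Subtype.property _
  generalize hc'₁ : ((α₁ ⟨c₀, hc₀R₁⟩ : R₁) : Ω) = c'₁ at hF1 hF1' hF2 hF6 hc'₁R
  generalize hc'₂ : ((α₂ ⟨c₀, hc₀R₂⟩ : R₂) : Ω) = c'₂ at hG1 hG1' hG2 hG6 hc'₂R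
  have hc'₁S : c'₁ ∈ S := hR₁S hc'₁R
  have hc'₂S : c'₂ ∈ S := hR₂S hc'₂R
  have hc'₂notR₁ : c'₂ ∉ R₁ := fun h =>
    hR₂₁ (D.eq_of_mem hR₂S hcR₂ hne₂ hR₁S hcR₁ hne₁ hc'₂R hG1 h)
  have hc'₁notR₂ : c'₁ ∉ R₂ := fun h =>
    hR₂₁ (D.eq_of_mem hR₁S hcR₁ hne₁ hR₂S hcR₂ hne₂ hc'₁R hF1 h).symm
  have hnc : c'₁ * c'₂ ≠ c'₂ * c'₁ := by
    intro h
    obtain ⟨-, -, -, he₁, -⟩ := D.cen_struct hR₁S hcR₁ hne₁
    exact hF1 (he₁ c'₂ hc'₂S hc'₂notR₁ c'₁ hc'₁R h.symm)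
  have hinv₁ : c'₁⁻¹ = c'₁ := inv_eq_of_mul_eq_one_left hF1'
  have hinv₂ : c'₂⁻¹ = c'₂ := inv_eq_of_mul_eq_one_left hG1'
  have hsq₁ : c'₁ ^ 2 = 1 := by rw [pow_two]; exact hF1'
  have hsq₂ : c'₂ ^ 2 = 1 := by rw [pow_two]; exact hG1'
  have hu : c'₁ * c'₂ * c'₁ * c'₂ = c₀ := by
    have h := D.hcomm c'₁ hc'₁S c'₂ hc'₂S
    rw [hinv₁, hinv₂] at h
    rcases mem_zpowers_two hc2 h with h1 | h1
    · exfalso
      apply hnc
      calc c'₁ * c'₂ = (c'₁ * c'₂ * c'₁ * c'₂) * (c'₂⁻¹ * c'₁⁻¹) := by group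
        _ = c'₂ * c'₁ := by rw [h1, one_mul, hinv₁, hinv₂]
    · exact h1
  -- every active subgroup is `R₁` or `R₂`
  have hR12 : ∀ (R : Subgroup Ω) (_ : F.IsCentric R) (_ : R ≠ S) (hc₀R : c₀ ∈ R),
      ∀ γ ∈ F.autGroup R, γ ⟨c₀, hc₀R⟩ ≠ ⟨c₀, hc₀R⟩ → R = R₁ ∨ R = R₂ := by
    intro R hc hne hc₀R γ hγ hγc
    obtain ⟨hH1, hH1', -⟩ := D.two_active' hS F hF hc hne hc₀R hγ hγc
    obtain ⟨hRS, hcR⟩ := D.centric_facts F hc
    have hc'₃R : ((γ ⟨c₀, hc₀R⟩ : R) : Ω) ∈ R := Subtype.property _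
    generalize ((γ ⟨c₀, hc₀R⟩ : R) : Ω) = c'₃ at hH1 hH1' hc'₃R
    obtain ⟨i, j, z, hz, h3⟩ := D.hspan c'₁ hc'₁S c'₂ hc'₂S hnc c'₃ (hRS hc'₃R)
    rcases mem_zpowers_two hsq₁ (Subgroup.npow_mem_zpowers c'₁ i) with hi | hi <;>
    rcases mem_zpowers_two hsq₂ (Subgroup.npow_mem_zpowers c'₂ j) with hj | hj
    · exfalso
      apply hH1
      rw [h3, hi, hj, one_mul, one_mul]
      exact hz
    · right
      refine D.eq_of_mem hRS hcR hne hR₂S hcR₂ hne₂ hc'₃R hH1 ?_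
      rw [h3, hi, hj, one_mul]
      exact R₂.mul_mem hc'₂R (hZR₂ hz)
    · left
      refine D.eq_of_mem hRS hcR hne hR₁S hcR₁ hne₁ hc'₃R hH1 ?_
      rw [h3, hi, hj, mul_one]
      exact R₁.mul_mem hc'₁R (hZR₁ hz)
    · exfalso
      rw [hi, hj] at h3
      have hzc : (c'₁ * c'₂) * z = z * (c'₁ * c'₂) := D.central hz (S.mul_mem hc'₁S hc'₂S)
      have h4 : c'₃ * c'₃ = c₀ * (z * z) := by
        rw [h3, ← hu]
        calc c'₁ * c'₂ * z * (c'₁ * c'₂ * z) = c'₁ * c'₂ * (z * (c'₁ * c'₂)) * z := by group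
          _ = c'₁ * c'₂ * ((c'₁ * c'₂) * z) * z := by rw [hzc]
          _ = c'₁ * c'₂ * c'₁ * c'₂ * (z * z) := by group
      rw [hH1'] at h4
      have hzz : z * z = c₀ := by
        rw [← hc₀inv]
        exact (eq_inv_of_mul_eq_one_right h4.symm)
      apply hF4'
      rcases hF4 z hz with h | h
      · rw [← hzz]
        exact Subgroup.mul_mem _ h h
      · have h5 : z * c₀ * (z * c₀) = c₀ := by
          have hcz : c₀ * z = z * c₀ := (D.central hz D.c₀S)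
          calc z * c₀ * (z * c₀) = z * (c₀ * z) * c₀ := by group
            _ = z * (z * c₀) * c₀ := by rw [hcz]
            _ = (z * z) * (c₀ * c₀) := by group
            _ = c₀ := by rw [hzz, ← pow_two, hc2, mul_one]
        rw [← h5]
        exact Subgroup.mul_mem _ h h
  -- the two complements intersect trivially
  have hinf : R0 S R₁ α₁ ⊓ R0 S R₂ α₂ = ⊥ := by
    have hle : R0 S R₁ α₁ ⊓ R0 S R₂ α₂ ≤ Qtwo F := by
      rintro x ⟨hx1, hx2⟩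
      refine ⟨hx1.1, fun R hc hne β hβ h => ?_⟩
      have hc₀R : c₀ ∈ R := cen_le_of_centric F hc D.hc₀Z
      by_cases hact : ∀ γ ∈ F.autGroup R, γ ⟨c₀, hc₀R⟩ = ⟨c₀, hc₀R⟩
      · obtain ⟨θ, hθ, hθx⟩ := hinact R hc hne hc₀R hact β hβ
        rw [← hθx ⟨x, h⟩]
        exact D.aut_central θ hx1.1
      · obtain ⟨γ₀, hγ₀, hγ₀c⟩ := hactive R hc₀R hact
        rcases hR12 R hc hne hc₀R γ₀ hγ₀ hγ₀c with hR | hR
        · subst hR
          exact (hF3 β hβ ⟨x, h⟩ hx1).1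
        · subst hR
          exact (hG3 β hβ ⟨x, h⟩ hx2).1
    rw [hQbot] at hle
    exact le_bot_iff.1 hle
  have hsm₁ := small_of_inf hinf (fun y hy => hG4 y hy.1)
  have hinf' : R0 S R₂ α₂ ⊓ R0 S R₁ α₁ = ⊥ := by rw [inf_comm]; exact hinf
  have hsm₂ := small_of_inf hinf' (fun y hy => hF4 y hy.1)
  have hfix₁ : ∀ β ∈ F.autGroup R₁, ∀ x : R₁, (x : Ω) ∈ R0 S R₁ α₁ → β x = x := by
    intro β hβ x hx
    by_cases hx1 : x = 1
    · rw [hx1, map_one]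
    · have h1 := hF3 β hβ x hx
      have h2 : ((β x : R₁) : Ω) ≠ 1 := by
        intro h
        apply hx1
        have h3 : β x = β 1 := by
          rw [map_one]
          exact Subtype.ext h
        exact β.injective h3
      have h4 : (x : Ω) ≠ 1 := fun h => hx1 (Subtype.ext h)
      exact Subtype.ext (hsm₁ _ h1 _ hx h2 h4)
  have hfix₂ : ∀ β ∈ F.autGroup R₂, ∀ x : R₂, (x : Ω) ∈ R0 S R₂ α₂ → β x = x := by
    intro β hβ x hx
    by_cases hx1 : x = 1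
    · rw [hx1, map_one]
    · have h1 := hG3 β hβ x hx
      have h2 : ((β x : R₂) : Ω) ≠ 1 := by
        intro h
        apply hx1
        have h3 : β x = β 1 := by
          rw [map_one]
          exact Subtype.ext h
        exact β.injective h3
      have h4 : (x : Ω) ≠ 1 := fun h => hx1 (Subtype.ext h)
      exact Subtype.ext (hsm₂ _ h1 _ hx h2 h4)
  -- the subgroup `N`
  have hc'₁N : c'₁ ∈ Subgroup.closure ({c'₁, c'₂} : Set Ω) := Subgroup.subset_closure (by simp)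
  have hc'₂N : c'₂ ∈ Subgroup.closure ({c'₁, c'₂} : Set Ω) := Subgroup.subset_closure (by simp)
  have hc₀N : c₀ ∈ Subgroup.closure ({c'₁, c'₂} : Set Ω) := by
    rw [← hu]
    exact Subgroup.mul_mem _ (Subgroup.mul_mem _ (Subgroup.mul_mem _ hc'₁N hc'₂N) hc'₁N) hc'₂N
  have hzN : Subgroup.zpowers c₀ ≤ Subgroup.closure ({c'₁, c'₂} : Set Ω) :=
    Subgroup.zpowers_le.2 hc₀N
  have hNS : Subgroup.closure ({c'₁, c'₂} : Set Ω) ≤ S := by
    rw [Subgroup.closure_le]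
    rintro y (rfl | hy)
    · exact hc'₁S
    · rw [Set.mem_singleton_iff] at hy
      rw [hy]
      exact hc'₂S
  have hN : ∀ g ∈ S, ∀ x ∈ S, x⁻¹ * (g * x * g⁻¹) ∈ Subgroup.closure ({c'₁, c'₂} : Set Ω) := by
    intro g hg x hx
    have h1 := D.hcomm x⁻¹ (S.inv_mem hx) g hg
    rw [inv_inv] at h1
    have h2 : x⁻¹ * (g * x * g⁻¹) = x⁻¹ * g * x * g⁻¹ := by group
    rw [h2]
    exact hzN h1
  have hNn : ∀ g ∈ S, ∀ n ∈ Subgroup.closure ({c'₁, c'₂} : Set Ω),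
      g * n * g⁻¹ ∈ Subgroup.closure ({c'₁, c'₂} : Set Ω) := by
    intro g hg n hn
    have h1 := hzN (D.hcomm g hg n (hNS hn))
    have h2 : g * n * g⁻¹ = (g * n * g⁻¹ * n⁻¹) * n := by group
    rw [h2]
    exact Subgroup.mul_mem _ h1 hn
  -- active subgroups act trivially modulo `N`
  have hactN : ∀ (R : Subgroup Ω) (_ : F.IsCentric R) (_ : R ≠ S) (hc₀R : c₀ ∈ R),
      ∀ γ ∈ F.autGroup R, γ ⟨c₀, hc₀R⟩ ≠ ⟨c₀, hc₀R⟩ →
        (∀ β ∈ F.autGroup R, ((β ⟨c₀, hc₀R⟩ : R) : Ω) ∈ Subgroup.closure ({c'₁, c'₂} : Set Ω)) ∧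
        (∀ β ∈ F.autGroup R, ∀ x : R,
          (x : Ω)⁻¹ * ((β x : R) : Ω) ∈ Subgroup.closure ({c'₁, c'₂} : Set Ω)) := by
    intro R hc hne hc₀R γ hγ hγc
    rcases hR12 R hc hne hc₀R γ hγ hγc with hR | hR
    · subst hR
      constructor
      · intro β hβ
        rcases hF2 β hβ with h | h | h
        · have h' : ((β ⟨c₀, hc₀R⟩ : R) : Ω) = c₀ := h
          rw [h']
          exact hc₀N
        · have h' : ((β ⟨c₀, hc₀R⟩ : R) : Ω) = c'₁ := h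
          rw [h']
          exact hc'₁N
        · have h' : ((β ⟨c₀, hc₀R⟩ : R) : Ω) = c₀ * c'₁ := h
          rw [h']
          exact Subgroup.mul_mem _ hc₀N hc'₁N
      · intro β hβ x
        have h1 := hF6 β hβ (hfix₁ β hβ) x
        have hle : Subgroup.closure ({c₀, c'₁} : Set Ω) ≤
            Subgroup.closure ({c'₁, c'₂} : Set Ω) := by
          rw [Subgroup.closure_le]
          rintro y (rfl | hy)
          · exact hc₀N
          · rw [Set.mem_singleton_iff] at hy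
            rw [hy]
            exact hc'₁N
        exact hle h1
    · subst hR
      constructor
      · intro β hβ
        rcases hG2 β hβ with h | h | h
        · have h' : ((β ⟨c₀, hc₀R⟩ : R) : Ω) = c₀ := h
          rw [h']
          exact hc₀N
        · have h' : ((β ⟨c₀, hc₀R⟩ : R) : Ω) = c'₂ := h
          rw [h']
          exact hc'₂N
        · have h' : ((β ⟨c₀, hc₀R⟩ : R) : Ω) = c₀ * c'₂ := h
          rw [h']
          exact Subgroup.mul_mem _ hc₀N hc'₂N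
      · intro β hβ x
        have h1 := hG6 β hβ (hfix₂ β hβ) x
        have hle : Subgroup.closure ({c₀, c'₂} : Set Ω) ≤
            Subgroup.closure ({c'₁, c'₂} : Set Ω) := by
          rw [Subgroup.closure_le]
          rintro y (rfl | hy)
          · exact hc₀N
          · rw [Set.mem_singleton_iff] at hy
            rw [hy]
            exact hc'₂N
        exact hle h1
  -- `Aut_F(S)` acts trivially on the centre modulo `N`
  have hΓZ : ∀ δ ∈ F.autGroup S, ∀ z : S, (z : Ω) ∈ centralizerIn S S →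
      (z : Ω)⁻¹ * ((δ z : S) : Ω) ∈ Subgroup.closure ({c'₁, c'₂} : Set Ω) := by
    intro δ hδ z hz
    have hδc := D.two_aut_c₀ δ
    have key : ∀ y : S, (y : Ω) ∈ R0 S R₁ α₁ →
        (y : Ω)⁻¹ * ((δ y : S) : Ω) ∈ Subgroup.closure ({c'₁, c'₂} : Set Ω) := by
      intro y hy
      by_cases hy1 : (y : Ω) = 1
      · have h1 : y = 1 := Subtype.ext hy1
        rw [h1, map_one]
        simp
      · have hδy := D.aut_central δ hy.1
        rcases hF4 _ hδy with h | h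
        · have hδy1 : ((δ y : S) : Ω) ≠ 1 := by
            intro h1
            apply hy1
            have h2 : δ y = δ 1 := by
              rw [map_one]
              exact Subtype.ext h1
            rw [δ.injective h2]
            rfl
          rw [hsm₁ _ h _ hy hδy1 hy1, inv_mul_cancel]
          exact Subgroup.one_mem _
        · have hne1 : ((δ y : S) : Ω) * c₀ ≠ 1 := by
            intro h1
            apply hF4'
            have h2 : ((δ y : S) : Ω) = c₀ := by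
              rw [← hc₀inv]
              exact eq_inv_of_mul_eq_one_left h1
            have h3 : δ y = δ ⟨c₀, D.c₀S⟩ := by
              rw [hδc]
              exact Subtype.ext h2
            have h4 : y = ⟨c₀, D.c₀S⟩ := δ.injective h3
            rw [h4] at hy
            exact hy
          have h5 := hsm₁ _ h _ hy hne1 hy1
          have h6 : (y : Ω)⁻¹ * ((δ y : S) : Ω) = c₀⁻¹ := by
            rw [← h5]
            group
          rw [h6]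
          exact Subgroup.inv_mem _ hc₀N
    rcases hF4 (z : Ω) hz with h | h
    · exact key z h
    · have h1 := key (z * ⟨c₀, D.c₀S⟩) h
      rw [map_mul, hδc] at h1
      have hcm : ((z : Ω)⁻¹ * ((δ z : S) : Ω)) * c₀ = c₀ * ((z : Ω)⁻¹ * ((δ z : S) : Ω)) :=
        D.central D.hc₀Z (S.mul_mem (S.inv_mem z.2) (δ z).2)
      have h2 : ((z * ⟨c₀, D.c₀S⟩ : S) : Ω)⁻¹ * ((δ z * ⟨c₀, D.c₀S⟩ : S) : Ω)
          = (z : Ω)⁻¹ * ((δ z : S) : Ω) := by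
        show ((z : Ω) * c₀)⁻¹ * (((δ z : S) : Ω) * c₀) = _
        calc ((z : Ω) * c₀)⁻¹ * (((δ z : S) : Ω) * c₀)
            = c₀⁻¹ * (((z : Ω)⁻¹ * ((δ z : S) : Ω)) * c₀) := by group
          _ = c₀⁻¹ * (c₀ * ((z : Ω)⁻¹ * ((δ z : S) : Ω))) := by rw [hcm]
          _ = (z : Ω)⁻¹ * ((δ z : S) : Ω) := by group
      rw [h2] at h1
      exact h1
  -- `Aut_F(S)` acts trivially modulo `N`
  have hΓN : ∀ δ ∈ F.autGroup S, ∀ x : S,
      (x : Ω)⁻¹ * ((δ x : S) : Ω) ∈ Subgroup.closure ({c'₁, c'₂} : Set Ω) := by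
    intro δ hδ
    have hδc := D.two_aut_c₀ δ
    -- transport of an active pair
    have htr : ∀ (R : Subgroup Ω) (hc : F.IsCentric R) (_ : R ≠ S) (hc₀R : c₀ ∈ R),
        ∀ γ ∈ F.autGroup R, γ ⟨c₀, hc₀R⟩ ≠ ⟨c₀, hc₀R⟩ → (γ ⟨c₀, hc₀R⟩ : Ω) ∉ centralizerIn S S →
          ((δ ⟨γ ⟨c₀, hc₀R⟩, hc.1 (γ ⟨c₀, hc₀R⟩).2⟩ : S) : Ω) ∈
            Subgroup.closure ({c'₁, c'₂} : Set Ω) := by
      intro R hc hne hc₀R γ hγ hγc hγZ
      have hRS := hc.1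
      obtain ⟨R', e, he, hex⟩ := exists_transport F hδ hRS
      have hc' : F.IsCentric R' :=
        isCentric_of_isConj F hc ((isConj_iff_exists_iso F R R').2 ⟨e, he⟩)
      have hne' : R' ≠ S := by
        intro h1
        apply hne
        have h2 : Nat.card R = Nat.card R' := Nat.card_congr e.toEquiv
        rw [h1] at h2
        exact Subgroup.eq_of_le_of_card_ge hRS h2.symm.le
      have hc₀R' : c₀ ∈ R' := cen_le_of_centric F hc' D.hc₀Z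
      have hγ' : MulAut.congr e γ ∈ F.autGroup R' := congr_mem_autGroup F he hγ
      have h4 : e ⟨c₀, hc₀R⟩ = ⟨c₀, hc₀R'⟩ := by
        apply Subtype.ext
        rw [hex]
        exact congrArg Subtype.val hδc
      have h5 : (MulAut.congr e γ) ⟨c₀, hc₀R'⟩ = e (γ ⟨c₀, hc₀R⟩) := by
        rw [← h4]
        show e (γ (e.symm (e ⟨c₀, hc₀R⟩))) = _
        rw [MulEquiv.symm_apply_apply]
      have h6 : (MulAut.congr e γ) ⟨c₀, hc₀R'⟩ ≠ ⟨c₀, hc₀R'⟩ := by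
        rw [h5, ← h4]
        intro h7
        exact hγc (e.injective h7)
      have h8 := (hactN R' hc' hne' hc₀R' _ hγ' h6).1 _ hγ'
      rw [h5, hex] at h8
      exact h8
    have h1 : ((δ ⟨c'₁, hc'₁S⟩ : S) : Ω) ∈ Subgroup.closure ({c'₁, c'₂} : Set Ω) := by
      have h2 := htr R₁ hc₁ hne₁ hc₀R₁ α₁ hα₁ hα₁c (by rw [hc'₁]; exact hF1)
      have h3 : (⟨α₁ ⟨c₀, hc₀R₁⟩, hc₁.1 (α₁ ⟨c₀, hc₀R₁⟩).2⟩ : S) = ⟨c'₁, hc'₁S⟩ :=
        Subtype.ext hc'₁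
      rw [h3] at h2
      exact h2
    have h2 : ((δ ⟨c'₂, hc'₂S⟩ : S) : Ω) ∈ Subgroup.closure ({c'₁, c'₂} : Set Ω) := by
      have h2 := htr R₂ hc₂ hne₂ hc₀R₂ α₂ hα₂ hα₂c (by rw [hc'₂]; exact hG1)
      have h3 : (⟨α₂ ⟨c₀, hc₀R₂⟩, hc₂.1 (α₂ ⟨c₀, hc₀R₂⟩).2⟩ : S) = ⟨c'₂, hc'₂S⟩ :=
        Subtype.ext hc'₂
      rw [h3] at h2
      exact h2
    let K : Subgroup S :=
      { carrier := {x | (x : Ω)⁻¹ * ((δ x : S) : Ω) ∈ Subgroup.closure ({c'₁, c'₂} : Set Ω)}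
        mul_mem' := by
          intro a b ha hb
          have ha' : (a : Ω)⁻¹ * ((δ a : S) : Ω) ∈ Subgroup.closure ({c'₁, c'₂} : Set Ω) := ha
          have hb' : (b : Ω)⁻¹ * ((δ b : S) : Ω) ∈ Subgroup.closure ({c'₁, c'₂} : Set Ω) := hb
          show ((a * b : S) : Ω)⁻¹ * ((δ (a * b) : S) : Ω) ∈ Subgroup.closure ({c'₁, c'₂} : Set Ω)
          rw [map_mul, Subgroup.coe_mul, Subgroup.coe_mul]
          have h3 : ((a : Ω) * (b : Ω))⁻¹ * (((δ a : S) : Ω) * ((δ b : S) : Ω))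
              = ((b : Ω)⁻¹ * ((a : Ω)⁻¹ * ((δ a : S) : Ω)) * ((b : Ω)⁻¹)⁻¹)
                * ((b : Ω)⁻¹ * ((δ b : S) : Ω)) := by group
          rw [h3]
          exact Subgroup.mul_mem _ (hNn _ (S.inv_mem b.2) _ ha') hb'
        one_mem' := by
          show ((1 : S) : Ω)⁻¹ * ((δ 1 : S) : Ω) ∈ Subgroup.closure ({c'₁, c'₂} : Set Ω)
          rw [map_one]
          simp
        inv_mem' := by
          intro a ha
          have ha' : (a : Ω)⁻¹ * ((δ a : S) : Ω) ∈ Subgroup.closure ({c'₁, c'₂} : Set Ω) := ha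
          show ((a⁻¹ : S) : Ω)⁻¹ * ((δ a⁻¹ : S) : Ω) ∈ Subgroup.closure ({c'₁, c'₂} : Set Ω)
          rw [map_inv, Subgroup.coe_inv, Subgroup.coe_inv]
          have h3 : ((a : Ω)⁻¹)⁻¹ * ((δ a : S) : Ω)⁻¹
              = (a : Ω) * ((a : Ω)⁻¹ * ((δ a : S) : Ω))⁻¹ * (a : Ω)⁻¹ := by group
          rw [h3]
          exact hNn _ a.2 _ (Subgroup.inv_mem _ ha') }
    have hK1 : (⟨c'₁, hc'₁S⟩ : S) ∈ K := by
      show c'₁⁻¹ * ((δ ⟨c'₁, hc'₁S⟩ : S) : Ω) ∈ Subgroup.closure ({c'₁, c'₂} : Set Ω)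
      exact Subgroup.mul_mem _ (Subgroup.inv_mem _ hc'₁N) h1
    have hK2 : (⟨c'₂, hc'₂S⟩ : S) ∈ K := by
      show c'₂⁻¹ * ((δ ⟨c'₂, hc'₂S⟩ : S) : Ω) ∈ Subgroup.closure ({c'₁, c'₂} : Set Ω)
      exact Subgroup.mul_mem _ (Subgroup.inv_mem _ hc'₂N) h2
    intro x
    obtain ⟨i, j, z, hz, hx⟩ := D.hspan c'₁ hc'₁S c'₂ hc'₂S hnc x x.2
    have hx' : x = ⟨c'₁, hc'₁S⟩ ^ i * ⟨c'₂, hc'₂S⟩ ^ j * ⟨z, hz.1⟩ := Subtype.ext hx
    have hxK : x ∈ K := by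
      rw [hx']
      exact K.mul_mem (K.mul_mem (K.pow_mem hK1 i) (K.pow_mem hK2 j)) (hΓZ δ hδ ⟨z, hz.1⟩ hz)
    exact hxK
  -- the focal subgroup
  have hfoc : F.focalSubgroup ≤ Subgroup.closure ({c'₁, c'₂} : Set Ω) := by
    refine focal_le_of_aut hS F hF _ hN ?_
    intro R _ _ hc _ α hα x
    by_cases hRS : R = S
    · subst hRS
      exact hΓN α hα x
    · have hc₀R : c₀ ∈ R := cen_le_of_centric F hc D.hc₀Z
      by_cases hact : ∀ γ ∈ F.autGroup R, γ ⟨c₀, hc₀R⟩ = ⟨c₀, hc₀R⟩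
      · obtain ⟨θ, hθ, hθx⟩ := hinact R hc hRS hc₀R hact α hα
        rw [← hθx x]
        exact hΓN θ hθ ⟨x, hc.1 x.2⟩
      · obtain ⟨γ₀, hγ₀, hγ₀c⟩ := hactive R hc₀R hact
        exact (hactN R hc hRS hc₀R γ₀ hγ₀ hγ₀c).2 α hα x
  have hSN : S ≤ Subgroup.closure ({c'₁, c'₂} : Set Ω) := by
    have h1 : F.hyperfocalSubgroup 2 ≤ Subgroup.closure ({c'₁, c'₂} : Set Ω) :=
      (hyperfocal_le_focal F 2).trans hfoc
    rwa [hhyp] at h1
  -- normal form in `N`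
  have hnf : ∀ x ∈ Subgroup.closure ({c'₁, c'₂} : Set Ω),
      ∃ i j : ℕ, ∃ w ∈ Subgroup.zpowers c₀, x = c'₁ ^ i * c'₂ ^ j * w := by
    have hstep : ∀ g ∈ ({c'₁, c'₂} : Set Ω), ∀ y : Ω,
        (∃ i j : ℕ, ∃ w ∈ Subgroup.zpowers c₀, y = c'₁ ^ i * c'₂ ^ j * w) →
        ∃ i j : ℕ, ∃ w ∈ Subgroup.zpowers c₀, g * y = c'₁ ^ i * c'₂ ^ j * w := by
      rintro g hg y ⟨i, j, w, hw, rfl⟩
      rcases hg with rfl | hg
      · exact ⟨i + 1, j, w, hw, by rw [pow_succ']; group⟩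
      · rw [Set.mem_singleton_iff] at hg
        subst hg
        have hv := D.hcomm (c'₁ ^ i)⁻¹ (S.inv_mem (S.pow_mem hc'₁S i)) g hc'₂S
        rw [inv_inv] at hv
        have hvZ := D.zpowers_le hv
        have h1 : ((c'₁ ^ i)⁻¹ * g * c'₁ ^ i * g⁻¹) * g ^ (j + 1)
            = g ^ (j + 1) * ((c'₁ ^ i)⁻¹ * g * c'₁ ^ i * g⁻¹) :=
          (D.central hvZ (S.pow_mem hc'₂S (j + 1))).symm
        refine ⟨i, j + 1, ((c'₁ ^ i)⁻¹ * g * c'₁ ^ i * g⁻¹) * w, Subgroup.mul_mem _ hv hw, ?_⟩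
        calc g * (c'₁ ^ i * g ^ j * w)
            = c'₁ ^ i * (((c'₁ ^ i)⁻¹ * g * c'₁ ^ i * g⁻¹) * g ^ (j + 1)) * w := by
              rw [pow_succ']
              group
          _ = c'₁ ^ i * g ^ (j + 1) * (((c'₁ ^ i)⁻¹ * g * c'₁ ^ i * g⁻¹) * w) := by
              rw [h1]
              group
    intro x hx
    refine Subgroup.closure_induction_left (p := fun x _ => ∃ i j : ℕ, ∃ w ∈ Subgroup.zpowers c₀,
      x = c'₁ ^ i * c'₂ ^ j * w) ?_ ?_ ?_ hx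
    · exact ⟨0, 0, 1, Subgroup.one_mem _, by simp⟩
    · intro g hg y _ ih
      exact hstep g hg y ih
    · intro g hg y _ ih
      have hginv : g⁻¹ = g := by
        rcases hg with rfl | hg
        · exact hinv₁
        · rw [Set.mem_singleton_iff] at hg
          rw [hg]
          exact hinv₂
      rw [hginv]
      exact hstep g hg y ih
  intro z hz
  obtain ⟨i, j, w, hw, hzw⟩ := hnf z (hSN hz.1)
  have hwZ := D.zpowers_le hw
  rcases mem_zpowers_two hsq₁ (Subgroup.npow_mem_zpowers c'₁ i) with hi | hi <;>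
  rcases mem_zpowers_two hsq₂ (Subgroup.npow_mem_zpowers c'₂ j) with hj | hj
  · rw [hi, hj, one_mul, one_mul] at hzw
    rw [hzw]
    exact mem_zpowers_two hc2 hw
  · exfalso
    apply hG1
    rw [hi, hj, one_mul] at hzw
    have h1 : c'₂ = z * w⁻¹ := by
      rw [hzw]
      group
    rw [h1]
    exact Subgroup.mul_mem _ hz (Subgroup.inv_mem _ hwZ)
  · exfalso
    apply hF1
    rw [hi, hj, mul_one] at hzw
    have h1 : c'₁ = z * w⁻¹ := by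
      rw [hzw]
      group
    rw [h1]
    exact Subgroup.mul_mem _ hz (Subgroup.inv_mem _ hwZ)
  · exfalso
    apply hc'₂notR₁
    rw [hi, hj] at hzw
    have h1 : c'₂ = c'₁⁻¹ * (z * w⁻¹) := by
      rw [hzw]
      group
    rw [h1]
    exact R₁.mul_mem (R₁.inv_mem hc'₁R)
      (hZR₁ (Subgroup.mul_mem _ hz (Subgroup.inv_mem _ hwZ)))

end Cfsg.Agent.Lib.Helper87
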