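import Mathlib
import Cfsg.Prelude.Def_FusionSystem
import Cfsg.Prelude.Def_Transfer
import Cfsg.Agent.Lib.Helper87.SC8
import Cfsg.Agent.Lib.Helper87.PGroupFrattini
import Cfsg.Agent.Lib.Helper46.Dihedral

set_option autoImplicit false

namespace Cfsg.Agent.Lib.Helper87

open Cfsg Cfsg.FusionSystem

/-- A group of order `8` with a non-central involution, in which all commutators and squares
lie in `{1, c}`, is dihedral. -/
theorem dihedral_of_facts {G : Type*} [Group G] [Finite G] (hcard : Nat.card G = 8) (c : G)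
    (hc2 : c ^ 2 = 1) (hcomm : ∀ x y : G, x * y * x⁻¹ * y⁻¹ ∈ Subgroup.zpowers c)
    (hsq : ∀ x : G, x ^ 2 = 1 ∨ x ^ 2 = c) (c' : G) (hc' : c' * c' = 1) (s : G)
    (hs : s * c' ≠ c' * s) : Nonempty (G ≃* DihedralGroup 4) := by
  have hcm : ∀ x y : G, x * y ≠ y * x → x * y * x⁻¹ * y⁻¹ = c := by
    intro x y hxy
    rcases mem_zpowers_two hc2 (hcomm x y) with h | h
    · exfalso
      apply hxy
      calc x * y = (x * y * x⁻¹ * y⁻¹) * (y * x) := by group
        _ = y * x := by rw [h, one_mul]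
    · exact h
  have hc1 : c ≠ 1 := by
    intro h
    have h1 := hcm s c' hs
    rw [h] at h1
    apply hs
    calc s * c' = (s * c' * s⁻¹ * c'⁻¹) * (c' * s) := by group
      _ = c' * s := by rw [h1, one_mul]
  have hinv' : c'⁻¹ = c' := inv_eq_of_mul_eq_one_left hc'
  have hex : ∃ r : G, r ^ 2 = c ∧ r * c' ≠ c' * r := by
    rcases hsq s with h | h
    · refine ⟨s * c', ?_, ?_⟩
      · have hsinv : s⁻¹ = s := by
          rw [inv_eq_iff_mul_eq_one, ← pow_two]
          exact h
        have h1 := hcm s c' hs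
        rw [hsinv, hinv'] at h1
        rw [pow_two, ← h1]
        group
      · intro h1
        apply hs
        have h2 : s * c' * c' = s := by rw [mul_assoc, hc', mul_one]
        rw [h2] at h1
        calc s * c' = (c' * (s * c')) * c' := by rw [← h1]
          _ = c' * s * (c' * c') := by group
          _ = c' * s := by rw [hc', mul_one]
    · exact ⟨s, h, hs⟩
  obtain ⟨r, hr2, hrc'⟩ := hex
  have hr4 : r ^ 4 = 1 := by
    have h1 : r ^ 4 = (r ^ 2) ^ 2 := by rw [← pow_mul]
    rw [h1, hr2, hc2]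
  have hord : orderOf r = 4 := by
    have h1 : ¬ r ^ 2 ^ 1 = 1 := by
      rw [pow_one, hr2]
      exact hc1
    have h2 : r ^ 2 ^ (1 + 1) = 1 := hr4
    exact orderOf_eq_prime_pow (p := 2) h1 h2
  have hab : c' * r * c'⁻¹ = r⁻¹ := by
    have h1 := hcm c' r (fun h => hrc' h.symm)
    have h2 : c' * r * c'⁻¹ = c * r := by
      rw [← h1]
      group
    rw [h2, ← hr2]
    have h3 : r ^ 2 * r * r = 1 := by
      rw [← hr4]
      group
    exact eq_inv_of_mul_eq_one_left h3
  have hnot : c' ∉ Subgroup.zpowers r := by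
    intro h
    obtain ⟨k, hk⟩ := Subgroup.mem_zpowers_iff.1 h
    apply hrc'
    rw [← hk]
    exact (Commute.zpow_right (Commute.refl r) k).eq
  have hinj := Cfsg.Agent.Lib.Helper46.dihedralLift_injective r c' hr4 hc' hab hord hnot
  have hbij : Function.Bijective (Cfsg.Agent.Lib.Helper46.dihedralLift r c' hr4 hc' hab) := by
    apply hinj.bijective_of_nat_card_le
    rw [hcard, DihedralGroup.nat_card]
  exact ⟨(MulEquiv.ofBijective _ hbij).symm⟩

/-- A saturated fusion system over a nontrivial `p`-group `S` whose centre has index at most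
`p ^ 2`, with `O_p(F) = 1` and hyperfocal subgroup `S`: then `S` is extraspecial of order
`p ^ 3`, of exponent `p` for odd `p` and dihedral for `p = 2`. -/
theorem sc_final {Ω : Type*} [Group Ω] {S : Subgroup Ω} [Finite S] (p : ℕ) [Fact p.Prime]
    (hS : IsPGroup p ↥S) (F : Cfsg.FusionSystem S) (hF : F.IsSaturated p) (hS1 : S ≠ ⊥)
    (hcore : F.core = ⊥) (hhyp : F.hyperfocalSubgroup p = S)
    (hZ : (Subgroup.center ↥S).index ≤ p ^ 2) :
    Cfsg.IsExtraspecial p ↥S ∧ Nat.card S = p ^ 3 ∧ (p ≠ 2 → Monoid.exponent ↥S = p) ∧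
      (p = 2 → Nonempty (↥S ≃* DihedralGroup 4)) := by
  have hp : p.Prime := Fact.out
  have hcore' : ∀ Q : Subgroup Ω, F.IsNormal Q → Q = ⊥ := by
    intro Q hQ
    have h1 : Q ≤ F.core := le_sSup hQ
    rw [hcore] at h1
    exact le_bot_iff.1 h1
  have hnc : ¬ ∀ x ∈ S, ∀ y ∈ S, x * y = y * x := by
    intro hab
    apply hS1
    apply hcore'
    refine isNormal_of_aut_invariant hS F hF le_rfl Subgroup.le_normalizer ?_
    intro R _ _ hc _
    have hSR : S ≤ R := fun g hg => hc.2 R (isConj_refl F hc.1)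
      (mem_centralizerIn_iff.2 ⟨hg, fun h hh => hab h (hc.1 hh) g hg⟩)
    exact ⟨hSR, fun α _ x _ => hc.1 (α x).2⟩
  obtain ⟨⟨c₀, D⟩, hidx⟩ := exists_scdata hS hZ hnc
  have hZc : ∀ z ∈ centralizerIn S S, z ∈ Subgroup.zpowers c₀ := by
    by_cases hp2 : p = 2
    · subst hp2
      intro z hz
      rcases (D.two_main hS F hF hcore' hhyp).1 z hz with h | h
      · rw [h]
        exact Subgroup.one_mem _
      · rw [h]
        exact Subgroup.mem_zpowers _
    · exact (D.odd_main hS F hF hp2 hcore').1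
  have hcenter : Subgroup.center ↥S = Subgroup.zpowers (⟨c₀, D.c₀S⟩ : S) := by
    ext z
    rw [mem_center_iff_coe]
    constructor
    · intro hz
      obtain ⟨k, hk⟩ := Subgroup.mem_zpowers_iff.1 (hZc _ hz)
      exact Subgroup.mem_zpowers_iff.2 ⟨k, Subtype.ext (by
        rw [Subgroup.coe_zpow]
        exact hk)⟩
    · intro hz
      obtain ⟨k, hk⟩ := Subgroup.mem_zpowers_iff.1 hz
      rw [← hk, Subgroup.coe_zpow]
      exact D.zpowers_le (Subgroup.zpow_mem_zpowers c₀ k)
  have hc₀S1 : (⟨c₀, D.c₀S⟩ : S) ≠ 1 := fun h => D.hc₀1 (congrArg Subtype.val h)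
  have hc₀Sp : (⟨c₀, D.c₀S⟩ : S) ^ p = 1 := Subtype.ext (by
    rw [Subgroup.coe_pow]
    exact D.hc₀p)
  have hord : orderOf (⟨c₀, D.c₀S⟩ : S) = p := orderOf_eq_prime hc₀Sp hc₀S1
  have hcardZ : Nat.card (Subgroup.center ↥S) = p := by
    rw [hcenter, Nat.card_zpowers, hord]
  have hcardS : Nat.card S = p ^ 3 := by
    rw [← Subgroup.card_mul_index (Subgroup.center ↥S), hcardZ, hidx]
    ring
  have hcen : ∀ x y : S, x * y * x⁻¹ * y⁻¹ ∈ Subgroup.center ↥S := fun x y =>
    (mem_center_iff_coe _).2 (D.comm_central x.2 y.2)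
  have hc₀comm : (⟨c₀, D.c₀S⟩ : S) ∈ commutator ↥S := by
    obtain ⟨x, hx, y, hy, hxy⟩ := D.hc₀c
    have h1 : (⟨c₀, D.c₀S⟩ : S)
        = (⟨x, hx⟩ : S) * ⟨y, hy⟩ * (⟨x, hx⟩ : S)⁻¹ * (⟨y, hy⟩ : S)⁻¹ := Subtype.ext hxy
    have h2 := Subgroup.commutator_mem_commutator (Subgroup.mem_top (⟨x, hx⟩ : S))
      (Subgroup.mem_top (⟨y, hy⟩ : S))
    rw [commutatorElement_def] at h2
    rw [h1, commutator_def]
    exact h2
  have hcommeq : commutator ↥S = Subgroup.center ↥S := by
    apply le_antisymm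
    · rw [commutator_def, Subgroup.commutator_le]
      intro x _ y _
      rw [commutatorElement_def]
      exact hcen x y
    · rw [hcenter, Subgroup.zpowers_le]
      exact hc₀comm
  have hfrat : frattini ↥S = Subgroup.center ↥S := by
    apply le_antisymm
    · let _ : CommGroup (↥S ⧸ Subgroup.center ↥S) :=
        { (inferInstance : Group (↥S ⧸ Subgroup.center ↥S)) with
          mul_comm := by
            intro a b
            induction a using QuotientGroup.induction_on with
            | H x =>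
            induction b using QuotientGroup.induction_on with
            | H y =>
            rw [← QuotientGroup.mk_mul, ← QuotientGroup.mk_mul, QuotientGroup.eq]
            have h1 := hcen y⁻¹ x⁻¹
            rw [inv_inv, inv_inv] at h1
            have h2 : (x * y)⁻¹ * (y * x) = y⁻¹ * x⁻¹ * y * x := by group
            rw [h2]
            exact h1 }
      have h1 := frattini_le_ker_of_exponent (p := p)
        (QuotientGroup.mk' (Subgroup.center ↥S)) (fun g => by
          rw [← map_pow]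
          exact (QuotientGroup.eq_one_iff _).2 ((mem_center_iff_coe _).2 (by
            rw [Subgroup.coe_pow]
            exact D.hpow g g.2)))
      rwa [QuotientGroup.ker_mk'] at h1
    · rw [hcenter, Subgroup.zpowers_le]
      obtain ⟨x, hx, y, hy, hxy⟩ := D.hc₀c
      have h1 : (⟨c₀, D.c₀S⟩ : S)
          = (⟨x, hx⟩ : S) * ⟨y, hy⟩ * (⟨x, hx⟩ : S)⁻¹ * (⟨y, hy⟩ : S)⁻¹ := Subtype.ext hxy
      rw [h1]
      exact comm_mem_frattini hS _ _
  refine ⟨⟨⟨hS, hfrat, hcommeq⟩, hcardZ⟩, hcardS, ?_, ?_⟩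
  · intro hp2
    have hexp := (D.odd_main hS F hF hp2 hcore').2
    have hnt : Nontrivial ↥S := (Subgroup.nontrivial_iff_ne_bot S).2 hS1
    rw [Monoid.exponent_eq_prime_iff hp]
    intro g hg
    exact orderOf_eq_prime (Subtype.ext (by
      rw [Subgroup.coe_pow]
      exact hexp g g.2)) hg
  · intro hp2
    subst hp2
    obtain ⟨hZ2, c', hc'S, hc'Z, hc'2⟩ := D.two_main hS F hF hcore' hhyp
    have hex : ∃ s ∈ S, s * c' ≠ c' * s := by
      by_contra hno
      apply hc'Z
      refine mem_centralizerIn_iff.2 ⟨hc'S, fun g hg => ?_⟩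
      by_contra hne
      exact hno ⟨g, hg, hne⟩
    obtain ⟨s, hs, hsc'⟩ := hex
    refine dihedral_of_facts (by rw [hcardS]; norm_num) (⟨c₀, D.c₀S⟩ : S) hc₀Sp ?_ ?_
      ⟨c', hc'S⟩ (Subtype.ext hc'2) ⟨s, hs⟩ (fun h => hsc' (congrArg Subtype.val h))
    · intro x y
      obtain ⟨k, hk⟩ := Subgroup.mem_zpowers_iff.1 (D.hcomm x x.2 y y.2)
      exact Subgroup.mem_zpowers_iff.2 ⟨k, Subtype.ext (by
        rw [Subgroup.coe_zpow]
        exact hk)⟩
    · intro x
      rcases hZ2 _ (D.hpow x x.2) with h | h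
      · left
        exact Subtype.ext (by
          rw [Subgroup.coe_pow]
          exact h)
      · right
        exact Subtype.ext (by
          rw [Subgroup.coe_pow]
          exact h)

end Cfsg.Agent.Lib.Helper87
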